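import Cfsg.Agent.H167.RV.Hall
import Cfsg.Agent.H565.PairExc

/-!
# TEAM RV: the good primes (helper167)

`Good P G` : for the primes with `P` the `t`-subgroups are abelian and no `t`-element acts nontrivially on an `s`-subgroup.
* `good_of_emb` : the primes not dividing `r |W|`;
* `fhall_generic` : `FHall` if all primes of `π` but one are good.
-/

set_option autoImplicit false
set_option linter.unusedSectionVars false

namespace Cfsg.Agent.H167.RV

open Subgroup Cfsg Cfsg.Lie Cfsg.Lie.ChevalleyDatum Cfsg.Agent.H988.CPi Cfsg.Agent.H571.RV Cfsg.Agent.H553.OddHall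
open CoxeterSystem
open Cfsg.Agent.ChevalleyStructure Cfsg.Agent.ChevalleyStructure.Elts Cfsg.Agent.ChevalleyStructure.CoxeterGeom
  Cfsg.Agent.ChevalleyStructure.CoxeterGeomTypes Cfsg.Agent.ChevalleyStructure.NPerm
open Cfsg.Agent.Tits.Roots Cfsg.Agent.Tits.Core Cfsg.Agent.Nodes Cfsg.Agent.Nodes.Reps Cfsg.Agent.Nodes.BNOf
  Cfsg.Agent.Nodes.RGDChev Cfsg.Agent.Nodes.Bruhat
open Cfsg.Agent.KFacts.RgdField Cfsg.Agent.KFacts.RgdChevCoord Cfsg.Agent.BpExc.TorCent Cfsg.Agent.BpExc.TorChev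
open Cfsg.Agent.GpExc.Field Cfsg.Agent.BpExc.Tow Cfsg.Agent.BpExc.TowChev Cfsg.Agent.BpExc.Fr
  Cfsg.Agent.BpExc.LangFr Cfsg.Agent.H795.SetCent Cfsg.Agent.H795.SetTor Cfsg.Agent.H565.NM

universe u v

/-- good primes -/
structure Good (P : ℕ → Prop) (G : Type*) [Group G] : Prop where
  noMin : ∀ s t : ℕ, s.Prime → t.Prime → P s → P t → s ≠ t → NoMin s t G
  abel : ∀ t : ℕ, t.Prime → P t → ∀ Q : Subgroup G, IsPGroup t Q → ∀ a ∈ Q, ∀ b ∈ Q, a * b = b * a

theorem Good.of_injective {P : ℕ → Prop} {G H : Type*} [Group G] [Group H] (f : G →* H)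
    (hf : Function.Injective f) (h : Good P H) : Good P G where
  noMin s t hs ht h1 h2 hst := (h.noMin s t hs ht h1 h2 hst).of_injective f hf
  abel t ht h1 Q hQ a ha b hb := by
    apply hf
    rw [map_mul, map_mul]
    exact h.abel t ht h1 (Q.map f) (hQ.map f) _ ⟨a, ha, rfl⟩ _ ⟨b, hb, rfl⟩

theorem Good.of_equiv {P : ℕ → Prop} {G H : Type*} [Group G] [Group H] (e : G ≃* H) (h : Good P H) : Good P G :=
  h.of_injective e.toMonoidHom e.injective

theorem Good.subgroup {P : ℕ → Prop} {G : Type*} [Group G] (h : Good P G) (X : Subgroup G) : Good P X :=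
  h.of_injective X.subtype X.subtype_injective

theorem Good.mono {P P' : ℕ → Prop} {G : Type*} [Group G] (hP : ∀ t, t.Prime → P' t → P t) (h : Good P G) :
    Good P' G where
  noMin s t hs ht h1 h2 hst := h.noMin s t hs ht (hP s hs h1) (hP t ht h2) hst
  abel t ht h1 := h.abel t ht (hP t ht h1)

section Emb

variable {D : ChevalleyDatum} {l : ℕ} {M : CoxeterMatrix (Fin l)} (hp : IsType D l M)
  (r : ℕ) [Fact r.Prime] {k : Type u} [Field k] [CharP k r] [IsAlgClosed k]

include hp in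
theorem good_of_emb (hk : LocFin k) {G : Type v} [Group G] [Finite G] {f : G →* ↥(D.group k)}
    (hf : Function.Injective f) : Good (fun t => t ≠ r ∧ ¬ t ∣ Nat.card M.Group) G where
  noMin s t _ _ h1 h2 _ := noMin_of_not_dvd hp r hk hf h1.1 h1.2 h2.2
  abel t ht h1 Q hQ a ha b hb := by
    obtain ⟨g, hg⟩ := exists_g_of_not_dvd hp r hk f ht h1.1 h1.2 hQ
    have h2 := TT_comm hp _ (hg a ha) _ (hg b hb)
    apply hf
    rw [map_mul, map_mul]
    have e1 : g * (f a * f b) * g⁻¹ = g * (f b * f a) * g⁻¹ := by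
      calc g * (f a * f b) * g⁻¹ = (g * f a * g⁻¹) * (g * f b * g⁻¹) := by group
        _ = (g * f b * g⁻¹) * (g * f a * g⁻¹) := h2
        _ = _ := by group
    exact mul_left_cancel (mul_right_cancel e1)

include hp in
/-- the untwisted groups -/
theorem good_untw {F : Type u} [Field F] [Finite F] :
    Good (fun t => (t : F) ≠ 0 ∧ ¬ t ∣ Nat.card M.Group) ↥(D.group F) := by
  have := Fintype.ofFinite F
  obtain ⟨r, e, hr, hrF, hrk, he, hq', hk⟩ := H129.TorusUntw.exists_closure (F := F) rfl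
  refine (good_of_emb hp r hk (f := emb hp.inList (algebraMap F (AlgebraicClosure F)))
    (emb_injective hp.inList _)).mono fun t _ h => ⟨?_, h.2⟩
  rintro rfl
  exact h.1 (CharP.cast_eq_zero F t)

end Emb

/-- **`FHall` if all primes of `π` but `r` are good.** -/
theorem fhall_generic {G : Type v} [Group G] [Finite G] {π : Set ℕ} {P : ℕ → Prop} (hG : Good P G) {r : ℕ}
    (hr : r.Prime) (h2 : 2 ∉ π) (hE : ∃ H : Subgroup G, IsPiHall π H)
    (hP : ∀ t, t.Prime → t ∈ π → t ≠ r → t ∣ Nat.card G → P t)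
    (hpair : r ∈ π → ∀ t, t.Prime → t ∈ π → t ≠ r → t ∣ Nat.card G → PairN t r G) : FHall π G := by
  refine fhall_of_pairs hr h2 hE fun t ht htr htπ htG => ⟨fun s hs hsπ hst hsG => ?_, hG.abel t ht (hP t ht htπ htr htG)⟩
  by_cases hsr : s = r
  · subst hsr
    exact hpair hsπ t ht htπ htr htG
  · refine pairN_of_noMin hs ht ?_ ?_ hst (hG.noMin s t hs ht (hP s hs hsπ hsr hsG) (hP t ht htπ htr htG) hst)
    · rintro rfl; exact h2 hsπ
    · rintro rfl; exact h2 htπ

end Cfsg.Agent.H167.RV
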