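import Cfsg.Agent.H571.RV.Pred
import Cfsg.Agent.H553.OddHall

/-!
# TEAM RV: `FHall` for Hall subgroups of odd order (helper167)

* `fhall_of_family` : from commuting `t`-subgroups `R t`, `t ≠ r`, normalised by a Sylow `r`-subgroup;
* `fhall_of_pairs` : the Sylow `t`-subgroups, `t ≠ r`, are abelian and `PairN t s` holds for all `s ≠ t`;
* `fhall_of_tor` : the `t`-subgroups normalised by an `s`-subgroup `Y` lie in a commutative subgroup.
-/

set_option autoImplicit false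

namespace Cfsg.Agent.H167.RV

open Subgroup Cfsg Cfsg.Agent.H988.CPi Cfsg.Agent.H571.RV Cfsg.Agent.H553.OddHall
open scoped Pointwise

variable {G : Type*} [Group G] [Finite G] {π : Set ℕ}

theorem fhall_of_family {r : ℕ} (hr : r.Prime) {H : Subgroup G} (hH : IsPiHall π H) {S : Subgroup G}
    (hSi : ¬ r ∣ S.relIndex H) (R : ℕ → Subgroup G)
    (hR : ∀ t, t.Prime → t ≠ r → t ∣ Nat.card H → R t ≤ H ∧ IsPGroup t (R t) ∧ ¬ t ∣ (R t).relIndex H ∧
      ∀ x ∈ S, ∀ y ∈ R t, x * y * x⁻¹ ∈ R t)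
    (hc : ∀ t u, t.Prime → t ≠ r → t ∣ Nat.card H → u.Prime → u ≠ r → u ∣ Nat.card H →
      ∀ a ∈ R t, ∀ b ∈ R u, a * b = b * a) : FHall π G := by
  classical
  let I := {t : ℕ // t.Prime ∧ t ≠ r ∧ t ∣ Nat.card H}
  set A : Subgroup G := ⨆ t : I, R t with hA
  have hRA : ∀ t (h1 : t.Prime) (h2 : t ≠ r) (h3 : t ∣ Nat.card H), R t ≤ A := fun t h1 h2 h3 =>
    le_iSup (fun t : I => R t) ⟨t, h1, h2, h3⟩
  have hAH : A ≤ H := iSup_le fun t => (hR t t.2.1 t.2.2.1 t.2.2.2).1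
  have hAA : A ≤ centralizer (A : Set G) := by
    refine iSup_le fun t => ?_
    rw [le_centralizer_iff]
    refine iSup_le fun u => ?_
    intro b hb
    rw [mem_centralizer_iff]
    intro a ha
    exact hc t u t.2.1 t.2.2.1 t.2.2.2 u.2.1 u.2.2.1 u.2.2.2 a ha b hb
  have hcomm : ∀ a ∈ A, ∀ b ∈ A, a * b = b * a := fun a ha b hb => mem_centralizer_iff.1 (hAA hb) a ha
  have hexp : ∀ a ∈ A, a ^ (ordCompl[r] (Nat.card H)) = 1 := by
    let E : Subgroup G :=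
      { carrier := {a | a ∈ A ∧ a ^ (ordCompl[r] (Nat.card H)) = 1}
        one_mem' := ⟨one_mem _, one_pow _⟩
        mul_mem' := by
          rintro a b ⟨ha, ha'⟩ ⟨hb, hb'⟩
          refine ⟨mul_mem ha hb, ?_⟩
          have h1 : Commute a b := hcomm a ha b hb
          rw [h1.mul_pow, ha', hb', one_mul]
        inv_mem' := by
          rintro a ⟨ha, ha'⟩
          exact ⟨inv_mem ha, by rw [inv_pow, ha', inv_one]⟩ }
    have h1 : A ≤ E := by
      refine iSup_le fun t => ?_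
      intro a ha
      refine ⟨hRA t t.2.1 t.2.2.1 t.2.2.2 ha, ?_⟩
      obtain ⟨h2, h3, -, -⟩ := hR t t.2.1 t.2.2.1 t.2.2.2
      obtain ⟨k, hk⟩ := h3 ⟨a, ha⟩
      have hk' : a ^ (t : ℕ) ^ k = 1 := congrArg Subtype.val hk
      have h4 : orderOf a ∣ Nat.card H := by
        have := orderOf_dvd_natCard (⟨a, h2 ha⟩ : H)
        rwa [Subgroup.orderOf_mk] at this
      have h5 : (orderOf a).Coprime r :=
        Nat.Coprime.coprime_dvd_left (orderOf_dvd_of_pow_eq_one hk')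
          (Nat.Coprime.pow_left k ((Nat.coprime_primes t.2.1 hr).2 t.2.2.1))
      rw [← orderOf_dvd_iff_pow_eq_one]
      have h6 : orderOf a ∣ r ^ (Nat.card H).factorization r * ordCompl[r] (Nat.card H) := by
        rw [Nat.ordProj_mul_ordCompl_eq_self]
        exact h4
      exact Nat.Coprime.dvd_of_dvd_mul_left (Nat.Coprime.pow_right _ h5) h6
    exact fun a ha => (h1 ha).2
  have hrA : ¬ r ∣ Nat.card A := by
    intro hd
    have : Fact r.Prime := ⟨hr⟩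
    obtain ⟨x, hx⟩ := exists_prime_orderOf_dvd_card' r hd
    have h1 := hexp x x.2
    have h2 : orderOf (x : G) = r := by rw [Subgroup.orderOf_coe]; exact hx
    have h3 := orderOf_dvd_of_pow_eq_one h1
    rw [h2] at h3
    exact Nat.not_dvd_ordCompl hr Nat.card_pos.ne' h3
  have hidx : ∀ p : ℕ, p.Prime → p ∣ A.relIndex H → p = r := by
    intro p hp hd
    by_contra hne
    have hpH : p ∣ Nat.card H := hd.trans (relIndex_dvd_card _ _)
    exact (hR p hp hne hpH).2.2.1 (hd.trans (relIndex_dvd_of_le_left H (hRA p hp hne hpH)))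
  have hSN : S ≤ normalizer (A : Set G) := by
    intro x hx
    have h1 : A ≤ A.comap (MulAut.conj x).toMonoidHom := by
      refine iSup_le fun t => ?_
      intro y hy
      exact hRA t t.2.1 t.2.2.1 t.2.2.2 ((hR t t.2.1 t.2.2.1 t.2.2.2).2.2.2 x hx y hy)
    exact mem_normalizer_fintype (S := (A : Set G)) fun y hy => h1 hy
  have hAN : A ≤ normalizer (A : Set G) := le_normalizer
  have hHN : H ≤ normalizer (A : Set G) := by
    have h1 : (normalizer (A : Set G)).relIndex H = 1 := by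
      by_contra hne
      obtain ⟨p, hp, hd⟩ := Nat.exists_prime_and_dvd hne
      rcases eq_or_ne p r with rfl | hpr
      · exact hSi (hd.trans (relIndex_dvd_of_le_left H hSN))
      · exact hpr (hidx p hp (hd.trans (relIndex_dvd_of_le_left H hAN)))
    exact relIndex_eq_one.1 h1
  exact ⟨r, hr, H, A, hH, hAH, hHN, hcomm, hrA, hidx⟩

/-- a Sylow subgroup of `H`, as a subgroup of `G` -/
theorem exists_syl {r : ℕ} (hr : r.Prime) (H : Subgroup G) : ∃ S ≤ H, IsPGroup r S ∧ ¬ r ∣ S.relIndex H := by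
  have : Fact r.Prime := ⟨hr⟩
  obtain ⟨S⟩ : Nonempty (Sylow r H) := inferInstance
  refine ⟨(S : Subgroup H).map H.subtype, map_subtype_le _, S.2.map _, ?_⟩
  rw [relIndex, subgroupOf, comap_map_eq_self_of_injective H.subtype_injective]
  exact S.not_dvd_index

omit [Finite G] in
theorem comm_of_normal {t u : ℕ} (ht : t.Prime) (hu : u.Prime) (htu : t ≠ u) {H R T : Subgroup G} (hRH : R ≤ H)
    (hTH : T ≤ H) (hR : IsPGroup t R) (hT : IsPGroup u T) (hRn : ∀ x ∈ H, ∀ y ∈ R, x * y * x⁻¹ ∈ R)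
    (hTn : ∀ x ∈ H, ∀ y ∈ T, x * y * x⁻¹ ∈ T) : ∀ a ∈ R, ∀ b ∈ T, a * b = b * a := by
  intro a ha b hb
  have h1 : a * b * a⁻¹ * b⁻¹ ∈ R := by
    have e : a * b * a⁻¹ * b⁻¹ = a * (b * a⁻¹ * b⁻¹) := by group
    rw [e]
    exact mul_mem ha (hRn b (hTH hb) _ (inv_mem ha))
  have h2 : a * b * a⁻¹ * b⁻¹ ∈ T := mul_mem (hTn a (hRH ha) b hb) (inv_mem hb)
  obtain ⟨i, hi⟩ := hR ⟨_, h1⟩
  obtain ⟨j, hj⟩ := hT ⟨_, h2⟩
  have hi' : (a * b * a⁻¹ * b⁻¹) ^ t ^ i = 1 := congrArg Subtype.val hi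
  have hj' : (a * b * a⁻¹ * b⁻¹) ^ u ^ j = 1 := congrArg Subtype.val hj
  have h3 : orderOf (a * b * a⁻¹ * b⁻¹) = 1 := by
    have hc : Nat.Coprime (t ^ i) (u ^ j) := Nat.Coprime.pow _ _ ((Nat.coprime_primes ht hu).2 htu)
    exact Nat.eq_one_of_dvd_coprimes hc (orderOf_dvd_of_pow_eq_one hi') (orderOf_dvd_of_pow_eq_one hj')
  have h4 := orderOf_eq_one_iff.1 h3
  have e : a * b = (a * b * a⁻¹ * b⁻¹) * (b * a) := by group
  rw [e, h4, one_mul]

/-- **From the pairs.** -/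
theorem fhall_of_pairs {r : ℕ} (hr : r.Prime) (h2 : 2 ∉ π) (hE : ∃ H : Subgroup G, IsPiHall π H)
    (h : ∀ t, t.Prime → t ≠ r → t ∈ π → t ∣ Nat.card G →
      (∀ s, s.Prime → s ∈ π → s ≠ t → s ∣ Nat.card G → PairN t s G) ∧
      ∀ P : Subgroup G, IsPGroup t P → ∀ a ∈ P, ∀ b ∈ P, a * b = b * a) : FHall π G := by
  classical
  obtain ⟨H, hH⟩ := hE
  obtain ⟨S, hSH, hSr, hSi⟩ := exists_syl hr H
  have key : ∀ t, ∃ R : Subgroup G, t.Prime → t ≠ r → t ∣ Nat.card H → R ≤ H ∧ IsPGroup t R ∧ ¬ t ∣ R.relIndex H ∧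
      ∀ x ∈ H, ∀ y ∈ R, x * y * x⁻¹ ∈ R := by
    intro t
    by_cases hex : t.Prime ∧ t ≠ r ∧ t ∣ Nat.card H
    · obtain ⟨ht, htr, htH⟩ := hex
      have htπ : t ∈ π := hH.1 t ht htH
      obtain ⟨hp, -⟩ := h t ht htr htπ (htH.trans (card_subgroup_dvd_card H))
      obtain ⟨T, hTn, hTp, hTi⟩ := ns_of_pairs h2 ht htπ (fun s hs hsπ hst hsd => hp s hs hsπ hst hsd) hH
      refine ⟨T.map H.subtype, fun _ _ _ => ⟨map_subtype_le _, hTp.map _, ?_, ?_⟩⟩
      · rw [relIndex, subgroupOf, comap_map_eq_self_of_injective H.subtype_injective]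
        exact hTi
      · rintro x hx _ ⟨y, hy, rfl⟩
        exact ⟨(⟨x, hx⟩ : H) * y * (⟨x, hx⟩ : H)⁻¹, hTn.conj_mem y hy _, rfl⟩
    · exact ⟨⊥, fun h1 h2 h3 => absurd ⟨h1, h2, h3⟩ hex⟩
  choose R hR using key
  refine fhall_of_family hr hH hSi R (fun t ht htr htH => ?_) (fun t u ht htr htH hu hur huH => ?_)
  · obtain ⟨h1, h3, h4, h5⟩ := hR t ht htr htH
    exact ⟨h1, h3, h4, fun x hx => h5 x (hSH hx)⟩
  · obtain ⟨a1, a2, -, a4⟩ := hR t ht htr htH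
    obtain ⟨b1, b2, -, b4⟩ := hR u hu hur huH
    rcases eq_or_ne t u with rfl | htu
    · exact (h t ht htr (hH.1 t ht htH) (htH.trans (card_subgroup_dvd_card H))).2 (R t) a2
    · exact comm_of_normal ht hu htu a1 b1 a2 b2 a4 b4

/-- a Hall `{s, t}`-subgroup over a given Sylow `s`-subgroup -/
theorem exists_hall_over {s : ℕ} (hs : s.Prime) {t : ℕ} (h2 : 2 ∉ π) {H : Subgroup G} (hH : IsPiHall π H)
    (hsπ : s ∈ π) (htπ : t ∈ π) {S : Subgroup G} (hSH : S ≤ H) (hSp : IsPGroup s S) :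
    ∃ X ≤ H, IsPiHall ({s, t} : Set ℕ) X ∧ S ≤ X := by
  have hfs : Fact s.Prime := ⟨hs⟩
  have hsol := solvable_of_pi h2 hH.1
  obtain ⟨X, hX⟩ := exists_isPiHall hsol ({s, t} : Set ℕ)
  -- a Sylow `s`-subgroup of `H` in `X`
  obtain ⟨Q, hQX, hQp, hQi⟩ := exists_syl hs X
  have hQi' : ¬ s ∣ Q.index := by
    rw [← relIndex_mul_index hQX, hs.dvd_mul, not_or]
    exact ⟨hQi, hX.2 s hs (by simp)⟩
  have hSp' : IsPGroup s (S.subgroupOf H) := hSp.comap_of_injective H.subtype H.subtype_injective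
  obtain ⟨P, hP⟩ := hSp'.exists_le_sylow
  obtain ⟨g, hg⟩ := MulAction.exists_smul_eq H (hQp.toSylow hQi' : Sylow s H) P
  have hX2 : IsPiHall ({s, t} : Set ℕ) (MulAut.conj g • X) := H988.CPi.isPiHall_smul hX g
  refine ⟨(MulAut.conj g • X).map H.subtype, map_subtype_le _, isPiHall_trans (by
    rintro x (rfl | rfl) <;> assumption) hH hX2, ?_⟩
  intro x hx
  refine ⟨⟨x, hSH hx⟩, ?_, rfl⟩
  have h1 : (⟨x, hSH hx⟩ : H) ∈ (P : Subgroup H) := hP (mem_subgroupOf.2 hx)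
  rw [← hg] at h1
  have h3 : ((g • (hQp.toSylow hQi' : Sylow s H) : Sylow s H) : Subgroup H) = MulAut.conj g • Q := rfl
  rw [h3] at h1
  exact Subgroup.pointwise_smul_le_pointwise_smul_iff.2 hQX h1

/-- **From a torus.** -/
theorem fhall_of_tor {s : ℕ} (hs : s.Prime) (h2 : 2 ∉ π) (hsπ : s ∈ π) (hE : ∃ H : Subgroup G, IsPiHall π H)
    (T₀ : Subgroup G) (hT₀ : ∀ a ∈ T₀, ∀ b ∈ T₀, a * b = b * a) (Y : Subgroup G) (hY : IsPGroup s Y)
    (hA : ∀ t, t.Prime → t ∈ π → t ≠ s → t ∣ Nat.card G → ∀ R : Subgroup G, IsPGroup t R →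
      (∀ y ∈ Y, ∀ x ∈ R, y * x * y⁻¹ ∈ R) → R ≤ T₀)
    (hp : ∀ t, t.Prime → t ∈ π → t ≠ s → t ∣ Nat.card G → PairN t s G) : FHall π G := by
  classical
  have hfs : Fact s.Prime := ⟨hs⟩
  -- a Hall subgroup containing `Y`
  obtain ⟨H, hH, hYH⟩ : ∃ H : Subgroup G, IsPiHall π H ∧ Y ≤ H := by
    obtain ⟨H, hH⟩ := hE
    obtain ⟨Q, hQH, hQp, hQi⟩ := exists_syl hs H
    have hQi' : ¬ s ∣ Q.index := by
      rw [← relIndex_mul_index hQH, hs.dvd_mul, not_or]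
      exact ⟨hQi, hH.2 s hs hsπ⟩
    obtain ⟨P, hP⟩ := hY.exists_le_sylow
    obtain ⟨g, hg⟩ := MulAction.exists_smul_eq G (hQp.toSylow hQi' : Sylow s G) P
    refine ⟨MulAut.conj g • H, H988.CPi.isPiHall_smul hH g, ?_⟩
    rw [← hg] at hP
    have h3 : ((g • (hQp.toSylow hQi' : Sylow s G) : Sylow s G) : Subgroup G) = MulAut.conj g • Q := rfl
    rw [h3] at hP
    exact hP.trans (Subgroup.pointwise_smul_le_pointwise_smul_iff.2 hQH)
  obtain ⟨S, hSH, hSp, hSi, hYS⟩ : ∃ S ≤ H, IsPGroup s S ∧ ¬ s ∣ S.relIndex H ∧ Y ≤ S := by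
    have hY' : IsPGroup s (Y.subgroupOf H) := hY.comap_of_injective H.subtype H.subtype_injective
    obtain ⟨P, hP⟩ := hY'.exists_le_sylow
    refine ⟨(P : Subgroup H).map H.subtype, map_subtype_le _, P.2.map _, ?_, ?_⟩
    · rw [relIndex, subgroupOf, comap_map_eq_self_of_injective H.subtype_injective]
      exact P.not_dvd_index
    · intro y hy
      exact ⟨⟨y, hYH hy⟩, hP (mem_subgroupOf.2 hy), rfl⟩
  have key : ∀ t, ∃ R : Subgroup G, t.Prime → t ≠ s → t ∣ Nat.card H → R ≤ H ∧ IsPGroup t R ∧ ¬ t ∣ R.relIndex H ∧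
      ∀ x ∈ S, ∀ y ∈ R, x * y * x⁻¹ ∈ R := by
    intro t
    by_cases hex : t.Prime ∧ t ≠ s ∧ t ∣ Nat.card H
    · obtain ⟨ht, hts, htH⟩ := hex
      have htπ : t ∈ π := hH.1 t ht htH
      have htG := htH.trans (card_subgroup_dvd_card H)
      obtain ⟨X, hXH, hX, hSX⟩ := exists_hall_over hs h2 hH hsπ htπ (t := t) hSH hSp
      obtain ⟨T, hTn, hTp, hTi⟩ := hp t ht htπ hts htG X hX
      refine ⟨T.map X.subtype, fun _ _ _ => ⟨(map_subtype_le _).trans hXH, hTp.map _, ?_, ?_⟩⟩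
      · have h1 : (T.map X.subtype).relIndex X = T.index := by
          rw [relIndex, subgroupOf, comap_map_eq_self_of_injective X.subtype_injective]
        rw [← relIndex_mul_relIndex _ _ _ (map_subtype_le T) hXH, h1, ht.dvd_mul, not_or]
        exact ⟨hTi, fun hd => hX.2 t ht (by simp) (hd.trans (relIndex_dvd_index_of_le hXH))⟩
      · rintro x hx _ ⟨y, hy, rfl⟩
        exact ⟨(⟨x, hSX hx⟩ : X) * y * (⟨x, hSX hx⟩ : X)⁻¹, hTn.conj_mem y hy _, rfl⟩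
    · exact ⟨⊥, fun h1 h2 h3 => absurd ⟨h1, h2, h3⟩ hex⟩
  choose R hR using key
  refine fhall_of_family hs hH hSi R (fun t ht hts htH => hR t ht hts htH)
    (fun t u ht hts htH hu hus huH => ?_)
  have hle : ∀ t, t.Prime → t ≠ s → t ∣ Nat.card H → R t ≤ T₀ := by
    intro t ht hts htH
    obtain ⟨-, a2, -, a4⟩ := hR t ht hts htH
    exact hA t ht (hH.1 t ht htH) hts (htH.trans (card_subgroup_dvd_card H)) (R t) a2 fun y hy => a4 y (hYS hy)
  exact fun a ha b hb => hT₀ a (hle t ht hts htH ha) b (hle u hu hus huH hb)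

end Cfsg.Agent.H167.RV
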