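import Cfsg.Agent.H167.RV.ChkS

/-!
# TEAM RV: the checks of `ChkS` with packed numbers (helper167)

The codes of the table are the 32-bit fields of one number `C`; for a multiple `m` the bits 31 of the fields of
`(C ^^^ m * O) + (2^31 - 1) * O` are the fields of `C` different from `m`.
-/

set_option autoImplicit false

namespace Cfsg.Agent.H167.RV

open Cfsg Cfsg.Lie Cfsg.Lie.ChevalleyDatum

/-- packing of a list into fields of 32 bits -/
def pk : List ℕ → ℕ
  | [] => 0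
  | a :: l => a + 2 ^ 32 * pk l

/-- the bits 31 of the allowed fields -/
def alw : List ℕ → ℕ
  | [] => 0
  | a :: l => Nat.lor (2 ^ (32 * a + 31)) (alw l)

theorem pk_mul (m : ℕ) (l : List ℕ) : m * pk l = pk (l.map (m * ·)) := by
  induction l with
  | nil => rfl
  | cons a l ih =>
    show m * (a + 2 ^ 32 * pk l) = m * a + 2 ^ 32 * pk (l.map (m * ·))
    rw [← ih]; ring

theorem pk_add {α : Type*} (f g : α → ℕ) (l : List α) : pk (l.map f) + pk (l.map g) = pk (l.map fun x => f x + g x) := by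
  induction l with
  | nil => rfl
  | cons a l ih =>
    show f a + 2 ^ 32 * pk (l.map f) + (g a + 2 ^ 32 * pk (l.map g)) = f a + g a + 2 ^ 32 * pk (l.map fun x => f x + g x)
    rw [← ih]; ring

theorem add_mul_xor {a b x y : ℕ} (ha : a < 2 ^ 32) (hb : b < 2 ^ 32) :
    (a + 2 ^ 32 * x) ^^^ (b + 2 ^ 32 * y) = (a ^^^ b) + 2 ^ 32 * (x ^^^ y) := by
  have hab : a ^^^ b < 2 ^ 32 := Nat.xor_lt_two_pow ha hb
  refine Nat.eq_of_testBit_eq fun i => ?_
  rw [Nat.testBit_xor, add_comm a, add_comm b, add_comm (a ^^^ b), Nat.testBit_two_pow_mul_add _ ha,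
    Nat.testBit_two_pow_mul_add _ hb, Nat.testBit_two_pow_mul_add _ hab]
  split_ifs <;> rw [Nat.testBit_xor]

theorem pk_xor {α : Type*} (f g : α → ℕ) (l : List α) (hf : ∀ x ∈ l, f x < 2 ^ 32) (hg : ∀ x ∈ l, g x < 2 ^ 32) :
    pk (l.map f) ^^^ pk (l.map g) = pk (l.map fun x => f x ^^^ g x) := by
  induction l with
  | nil => simp [pk]
  | cons a l ih =>
    show (f a + 2 ^ 32 * pk (l.map f)) ^^^ (g a + 2 ^ 32 * pk (l.map g)) =
      (f a ^^^ g a) + 2 ^ 32 * pk (l.map fun x => f x ^^^ g x)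
    rw [← ih (fun x hx => hf x (List.mem_cons_of_mem _ hx)) (fun x hx => hg x (List.mem_cons_of_mem _ hx)),
      add_mul_xor (hf a List.mem_cons_self) (hg a List.mem_cons_self)]

/-- the bits 31 -/
theorem testBit_pk (l : List ℕ) (hl : ∀ a ∈ l, a < 2 ^ 32) (i : ℕ) (hi : i < l.length) :
    (pk l).testBit (32 * i + 31) = (l[i]).testBit 31 := by
  induction l generalizing i with
  | nil => simp at hi
  | cons a l ih =>
    show (a + 2 ^ 32 * pk l).testBit (32 * i + 31) = _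
    rw [add_comm a, Nat.testBit_two_pow_mul_add _ (hl a List.mem_cons_self)]
    cases i with
    | zero => simp
    | succ i =>
      rw [if_neg (by omega), show 32 * (i + 1) + 31 - 32 = 32 * i + 31 by omega,
        ih (fun b hb => hl b (List.mem_cons_of_mem _ hb)) i (by simpa using hi)]
      simp

theorem mem_of_alw {l : List ℕ} {i : ℕ} (h : (alw l).testBit (32 * i + 31) = true) : i ∈ l := by
  induction l with
  | nil =>
    exfalso
    change (0 : ℕ).testBit _ = true at h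
    rw [Nat.zero_testBit] at h
    exact absurd h (by decide)
  | cons a l ih =>
    change (2 ^ (32 * a + 31) ||| alw l).testBit (32 * i + 31) = true at h
    rw [Nat.testBit_or, Bool.or_eq_true, Nat.testBit_two_pow, decide_eq_true_iff] at h
    rcases h with h | h
    · rw [show i = a by omega]
      exact List.mem_cons_self
    · exact List.mem_cons_of_mem _ (ih h)

/-- the packed check: `C` the codes, `O` the ones, `F = 2^31 * O` -/
def chkP (C O F : ℕ) (T : List ((ℕ × ℕ) × List ℕ × List ℕ)) : Bool :=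
  T.all fun u => !(Nat.beq u.1.2 0) && Nat.blt u.1.2 2147483648 && u.2.2.all fun m =>
    Nat.blt m 2147483648 &&
    Nat.beq (Nat.land (Nat.lor (Nat.add (Nat.xor C (Nat.mul m O)) (Nat.mul 2147483647 O)) (alw u.2.1)) F) F

theorem chkT_of_P {T : List ((ℕ × ℕ) × List ℕ × List ℕ)} {C O F : ℕ} (hC : pk (T.map fun u => u.1.2) = C)
    (hO : pk (T.map fun _ => 1) = O) (hF : 2147483648 * O = F) (hi : (T.map fun u => u.1.1) = List.range T.length)
    (h : chkP C O F T = true) : chkT T = true := by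
  have h1 : ∀ u ∈ T, u.1.2 ≠ 0 ∧ u.1.2 < 2147483648 ∧ ∀ m ∈ u.2.2, m < 2147483648 ∧
      ((((C ^^^ (m * O)) + 2147483647 * O) ||| alw u.2.1) &&& F) = F := by
    intro u hu
    have h2 := List.all_eq_true.1 h u hu
    rw [Bool.and_eq_true, Bool.and_eq_true] at h2
    refine ⟨fun h0 => ?_, by rw [← Nat.blt_eq]; exact h2.1.2, fun m hm => ?_⟩
    · have h3 := h2.1.1
      rw [h0] at h3
      exact absurd h3 (by decide)
    · have h3 := List.all_eq_true.1 h2.2 m hm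
      rw [Bool.and_eq_true] at h3
      exact ⟨by rw [← Nat.blt_eq]; exact h3.1, Nat.eq_of_beq_eq_true h3.2⟩
  refine List.all_eq_true.2 fun u hu => ?_
  obtain ⟨hu0, -, hum⟩ := h1 u hu
  rw [Bool.and_eq_true]
  refine ⟨?_, List.all_eq_true.2 fun v hv => ?_⟩
  · rw [Bool.not_eq_true']
    exact Bool.eq_false_iff.2 fun h3 => hu0 (Nat.eq_of_beq_eq_true h3)
  · rw [Bool.or_eq_true, Bool.not_eq_true']
    by_cases hm : v.1.2 ∈ u.2.2
    · right
      obtain ⟨hm1, hm2⟩ := hum _ hm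
      set m := v.1.2 with hmdef
      obtain ⟨i, hi', hvi⟩ := List.getElem_of_mem hv
      have hidx : v.1.1 = i := by
        have h4 : (T.map fun u => u.1.1)[i]'(by simpa using hi') = (List.range T.length)[i]'(by simpa using hi') :=
          List.getElem_of_eq hi _
        rw [List.getElem_map, List.getElem_range, hvi] at h4
        exact h4
      refine List.any_eq_true.2 ⟨v.1.1, ?_, Nat.beq_refl _⟩
      rw [hidx]
      apply mem_of_alw
      -- the bit of `F`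
      have hFb : F.testBit (32 * i + 31) = true := by
        rw [← hF, ← hO, pk_mul, testBit_pk _ (by
          intro a ha
          simp only [List.mem_map] at ha
          obtain ⟨_, ⟨_, _, rfl⟩, rfl⟩ := ha
          norm_num) i (by simpa using hi')]
        simp only [List.getElem_map]
        decide
      have hZ : ((C ^^^ (m * O)) + 2147483647 * O).testBit (32 * i + 31) = false := by
        have hcl : ∀ x ∈ T, x.1.2 < 2 ^ 32 := fun x hx => lt_of_lt_of_le (h1 x hx).2.1 (by norm_num)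
        have hx31 : ∀ x ∈ T, x.1.2 ^^^ m < 2 ^ 31 := fun x hx =>
          Nat.xor_lt_two_pow (by have := (h1 x hx).2.1; omega) (by omega)
        have e1 : m * O = pk (T.map fun _ => m) := by
          rw [← hO, pk_mul, List.map_map]
          congr 1
          refine List.map_congr_left fun _ _ => ?_
          show m * 1 = m
          rw [mul_one]
        have e2 : 2147483647 * O = pk (T.map fun _ => 2147483647) := by
          rw [← hO, pk_mul, List.map_map]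
          rfl
        rw [e1, e2, ← hC, pk_xor _ _ _ hcl (fun _ _ => by omega), pk_add, testBit_pk _ (by
          intro a ha
          simp only [List.mem_map] at ha
          obtain ⟨x, hx, rfl⟩ := ha
          have := hx31 x hx
          omega) i (by simpa using hi')]
        simp only [List.getElem_map]
        have : (T[i]).1.2 = m := by rw [hvi]
        rw [this, Nat.xor_self]
        decide
      have h5 := congrArg (fun n => Nat.testBit n (32 * i + 31)) hm2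
      simp only [Nat.testBit_and, Nat.testBit_or, hFb, hZ, Bool.false_or, Bool.and_true] at h5
      exact h5
    · left
      refine Bool.eq_false_iff.2 fun h3 => hm ?_
      obtain ⟨x, hx, hx'⟩ := List.any_eq_true.1 h3
      rw [Nat.eq_of_beq_eq_true hx']
      exact hx

/-- the table from the coordinates and the opposites of the roots -/
theorem table_eq {D : ChevalleyDatum} {s n l : ℕ} {N : List (List ℤ)} {g : List ℕ} {R : List (List ℤ)}
    {G : List ℕ} {T : List ((ℕ × ℕ) × List ℕ × List ℕ)} (hn : D.nroots = n)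
    (h1 : (List.range D.nroots).map (crd D l) = R) (h2 : (List.range D.nroots).map D.neg = G)
    (hg : ((List.range n).all fun b => Nat.blt (g.getD b 0) n) = true)
    (h3 : (R.map fun x => (cdS s 1 x N, (List.range s).map fun c : ℕ => cdS s (c : ℤ) x N)) =
      T.map fun u => (u.1.2, u.2.2))
    (h4 : (T.map fun u => (u.1.1, u.2.1)) =
      (List.range n).map fun b => (b, [b, G.getD b 0, g.getD b 0, G.getD (g.getD b 0) 0])) :
    (List.range D.nroots).map (entry D s N g l) = T := by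
  have hT : T.length = n := by
    have := congrArg List.length h4
    simpa using this
  have hneg : ∀ b < n, G.getD b 0 = D.neg b := by
    intro b hb
    rw [← h2, List.getD_eq_getElem _ _ (by simpa [hn] using hb)]
    simp
  refine List.ext_getElem (by simp [hn, hT]) fun i h5 h6 => ?_
  have hi : i < n := by rw [← hT]; exact h6
  have hgi : g.getD i 0 < n := by
    have := List.all_eq_true.1 hg i (List.mem_range.2 hi)
    rwa [Nat.blt_eq] at this
  have e3 : (cdS s 1 (crd D l i) N, (List.range s).map fun c : ℕ => cdS s (c : ℤ) (crd D l i) N) =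
      ((T[i]).1.2, (T[i]).2.2) := by
    have h7 := List.getElem_of_eq h3 (i := i) (by rw [← h1]; simpa [hn] using hi)
    simp only [List.getElem_map] at h7
    rw [← h7]
    have h8 : R[i]'(by rw [← h1]; simpa [hn] using hi) = crd D l i := by
      have h9 := List.getElem_of_eq h1 (i := i) (by simpa [hn] using hi)
      rw [← h9]; simp
    rw [h8]
  have e4 : ((T[i]).1.1, (T[i]).2.1) = (i, [i, D.neg i, g.getD i 0, D.neg (g.getD i 0)]) := by
    have h7 := List.getElem_of_eq h4 (i := i) (by simpa using h6)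
    simp only [List.getElem_map, List.getElem_range] at h7
    rw [h7, hneg i hi, hneg _ hgi]
  rw [List.getElem_map, List.getElem_range]
  have f1 := congrArg Prod.fst e3
  have f2 := congrArg Prod.snd e3
  have f3 := congrArg Prod.fst e4
  have f4 := congrArg Prod.snd e4
  exact Prod.ext (Prod.ext f3.symm f1) (Prod.ext f4.symm f2)

/-! ### `E8` -/

/-- the coordinates of the roots of `E8` -/
def R8 : List (List ℤ) :=
  [[.negSucc 1, .negSucc 2, .negSucc 3, .negSucc 5, .negSucc 4, .negSucc 3, .negSucc 2, .negSucc 1],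
    [.negSucc 1, .negSucc 2, .negSucc 3, .negSucc 5, .negSucc 4, .negSucc 3, .negSucc 2, .negSucc 0],
    [.negSucc 1, .negSucc 2, .negSucc 3, .negSucc 5, .negSucc 4, .negSucc 3, .negSucc 1, .negSucc 0],
    [.negSucc 1, .negSucc 2, .negSucc 3, .negSucc 5, .negSucc 4, .negSucc 2, .negSucc 1, .negSucc 0],
    [.negSucc 1, .negSucc 2, .negSucc 3, .negSucc 5, .negSucc 3, .negSucc 2, .negSucc 1, .negSucc 0],
    [.negSucc 1, .negSucc 2, .negSucc 3, .negSucc 4, .negSucc 3, .negSucc 2, .negSucc 1, .negSucc 0],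
    [.negSucc 1, .negSucc 2, .negSucc 2, .negSucc 4, .negSucc 3, .negSucc 2, .negSucc 1, .negSucc 0],
    [.negSucc 1, .negSucc 1, .negSucc 3, .negSucc 4, .negSucc 3, .negSucc 2, .negSucc 1, .negSucc 0],
    [.negSucc 1, .negSucc 1, .negSucc 2, .negSucc 4, .negSucc 3, .negSucc 2, .negSucc 1, .negSucc 0],
    [.negSucc 1, .negSucc 1, .negSucc 2, .negSucc 3, .negSucc 3, .negSucc 2, .negSucc 1, .negSucc 0],
    [.negSucc 1, .negSucc 1, .negSucc 2, .negSucc 3, .negSucc 2, .negSucc 2, .negSucc 1, .negSucc 0],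
    [.negSucc 1, .negSucc 1, .negSucc 2, .negSucc 3, .negSucc 2, .negSucc 1, .negSucc 1, .negSucc 0],
    [.negSucc 1, .negSucc 1, .negSucc 2, .negSucc 3, .negSucc 2, .negSucc 1, .negSucc 0, .negSucc 0],
    [.negSucc 1, .negSucc 1, .negSucc 2, .negSucc 3, .negSucc 2, .negSucc 1, .negSucc 0, .ofNat 0],
    [.negSucc 0, .negSucc 2, .negSucc 2, .negSucc 4, .negSucc 3, .negSucc 2, .negSucc 1, .negSucc 0],
    [.negSucc 0, .negSucc 1, .negSucc 2, .negSucc 4, .negSucc 3, .negSucc 2, .negSucc 1, .negSucc 0],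
    [.negSucc 0, .negSucc 1, .negSucc 2, .negSucc 3, .negSucc 3, .negSucc 2, .negSucc 1, .negSucc 0],
    [.negSucc 0, .negSucc 1, .negSucc 2, .negSucc 3, .negSucc 2, .negSucc 2, .negSucc 1, .negSucc 0],
    [.negSucc 0, .negSucc 1, .negSucc 2, .negSucc 3, .negSucc 2, .negSucc 1, .negSucc 1, .negSucc 0],
    [.negSucc 0, .negSucc 1, .negSucc 2, .negSucc 3, .negSucc 2, .negSucc 1, .negSucc 0, .negSucc 0],
    [.negSucc 0, .negSucc 1, .negSucc 2, .negSucc 3, .negSucc 2, .negSucc 1, .negSucc 0, .ofNat 0],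
    [.negSucc 0, .negSucc 1, .negSucc 1, .negSucc 3, .negSucc 3, .negSucc 2, .negSucc 1, .negSucc 0],
    [.negSucc 0, .negSucc 1, .negSucc 1, .negSucc 3, .negSucc 2, .negSucc 2, .negSucc 1, .negSucc 0],
    [.negSucc 0, .negSucc 1, .negSucc 1, .negSucc 3, .negSucc 2, .negSucc 1, .negSucc 1, .negSucc 0],
    [.negSucc 0, .negSucc 1, .negSucc 1, .negSucc 3, .negSucc 2, .negSucc 1, .negSucc 0, .negSucc 0],
    [.negSucc 0, .negSucc 1, .negSucc 1, .negSucc 3, .negSucc 2, .negSucc 1, .negSucc 0, .ofNat 0],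
    [.negSucc 0, .negSucc 1, .negSucc 1, .negSucc 2, .negSucc 2, .negSucc 2, .negSucc 1, .negSucc 0],
    [.negSucc 0, .negSucc 1, .negSucc 1, .negSucc 2, .negSucc 2, .negSucc 1, .negSucc 1, .negSucc 0],
    [.negSucc 0, .negSucc 1, .negSucc 1, .negSucc 2, .negSucc 2, .negSucc 1, .negSucc 0, .negSucc 0],
    [.negSucc 0, .negSucc 1, .negSucc 1, .negSucc 2, .negSucc 2, .negSucc 1, .negSucc 0, .ofNat 0],
    [.negSucc 0, .negSucc 1, .negSucc 1, .negSucc 2, .negSucc 1, .negSucc 1, .negSucc 1, .negSucc 0],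
    [.negSucc 0, .negSucc 1, .negSucc 1, .negSucc 2, .negSucc 1, .negSucc 1, .negSucc 0, .negSucc 0],
    [.negSucc 0, .negSucc 1, .negSucc 1, .negSucc 2, .negSucc 1, .negSucc 1, .negSucc 0, .ofNat 0],
    [.negSucc 0, .negSucc 1, .negSucc 1, .negSucc 2, .negSucc 1, .negSucc 0, .negSucc 0, .negSucc 0],
    [.negSucc 0, .negSucc 1, .negSucc 1, .negSucc 2, .negSucc 1, .negSucc 0, .negSucc 0, .ofNat 0],
    [.negSucc 0, .negSucc 1, .negSucc 1, .negSucc 2, .negSucc 1, .negSucc 0, .ofNat 0, .ofNat 0],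
    [.negSucc 0, .negSucc 0, .negSucc 1, .negSucc 2, .negSucc 2, .negSucc 2, .negSucc 1, .negSucc 0],
    [.negSucc 0, .negSucc 0, .negSucc 1, .negSucc 2, .negSucc 2, .negSucc 1, .negSucc 1, .negSucc 0],
    [.negSucc 0, .negSucc 0, .negSucc 1, .negSucc 2, .negSucc 2, .negSucc 1, .negSucc 0, .negSucc 0],
    [.negSucc 0, .negSucc 0, .negSucc 1, .negSucc 2, .negSucc 2, .negSucc 1, .negSucc 0, .ofNat 0],
    [.negSucc 0, .negSucc 0, .negSucc 1, .negSucc 2, .negSucc 1, .negSucc 1, .negSucc 1, .negSucc 0],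
    [.negSucc 0, .negSucc 0, .negSucc 1, .negSucc 2, .negSucc 1, .negSucc 1, .negSucc 0, .negSucc 0],
    [.negSucc 0, .negSucc 0, .negSucc 1, .negSucc 2, .negSucc 1, .negSucc 1, .negSucc 0, .ofNat 0],
    [.negSucc 0, .negSucc 0, .negSucc 1, .negSucc 2, .negSucc 1, .negSucc 0, .negSucc 0, .negSucc 0],
    [.negSucc 0, .negSucc 0, .negSucc 1, .negSucc 2, .negSucc 1, .negSucc 0, .negSucc 0, .ofNat 0],
    [.negSucc 0, .negSucc 0, .negSucc 1, .negSucc 2, .negSucc 1, .negSucc 0, .ofNat 0, .ofNat 0],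
    [.negSucc 0, .negSucc 0, .negSucc 1, .negSucc 1, .negSucc 1, .negSucc 1, .negSucc 1, .negSucc 0],
    [.negSucc 0, .negSucc 0, .negSucc 1, .negSucc 1, .negSucc 1, .negSucc 1, .negSucc 0, .negSucc 0],
    [.negSucc 0, .negSucc 0, .negSucc 1, .negSucc 1, .negSucc 1, .negSucc 1, .negSucc 0, .ofNat 0],
    [.negSucc 0, .negSucc 0, .negSucc 1, .negSucc 1, .negSucc 1, .negSucc 0, .negSucc 0, .negSucc 0],
    [.negSucc 0, .negSucc 0, .negSucc 1, .negSucc 1, .negSucc 1, .negSucc 0, .negSucc 0, .ofNat 0],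
    [.negSucc 0, .negSucc 0, .negSucc 1, .negSucc 1, .negSucc 1, .negSucc 0, .ofNat 0, .ofNat 0],
    [.negSucc 0, .negSucc 0, .negSucc 1, .negSucc 1, .negSucc 0, .negSucc 0, .negSucc 0, .negSucc 0],
    [.negSucc 0, .negSucc 0, .negSucc 1, .negSucc 1, .negSucc 0, .negSucc 0, .negSucc 0, .ofNat 0],
    [.negSucc 0, .negSucc 0, .negSucc 1, .negSucc 1, .negSucc 0, .negSucc 0, .ofNat 0, .ofNat 0],
    [.negSucc 0, .negSucc 0, .negSucc 1, .negSucc 1, .negSucc 0, .ofNat 0, .ofNat 0, .ofNat 0],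
    [.negSucc 0, .negSucc 0, .negSucc 0, .negSucc 1, .negSucc 1, .negSucc 1, .negSucc 1, .negSucc 0],
    [.negSucc 0, .negSucc 0, .negSucc 0, .negSucc 1, .negSucc 1, .negSucc 1, .negSucc 0, .negSucc 0],
    [.negSucc 0, .negSucc 0, .negSucc 0, .negSucc 1, .negSucc 1, .negSucc 1, .negSucc 0, .ofNat 0],
    [.negSucc 0, .negSucc 0, .negSucc 0, .negSucc 1, .negSucc 1, .negSucc 0, .negSucc 0, .negSucc 0],
    [.negSucc 0, .negSucc 0, .negSucc 0, .negSucc 1, .negSucc 1, .negSucc 0, .negSucc 0, .ofNat 0],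
    [.negSucc 0, .negSucc 0, .negSucc 0, .negSucc 1, .negSucc 1, .negSucc 0, .ofNat 0, .ofNat 0],
    [.negSucc 0, .negSucc 0, .negSucc 0, .negSucc 1, .negSucc 0, .negSucc 0, .negSucc 0, .negSucc 0],
    [.negSucc 0, .negSucc 0, .negSucc 0, .negSucc 1, .negSucc 0, .negSucc 0, .negSucc 0, .ofNat 0],
    [.negSucc 0, .negSucc 0, .negSucc 0, .negSucc 1, .negSucc 0, .negSucc 0, .ofNat 0, .ofNat 0],
    [.negSucc 0, .negSucc 0, .negSucc 0, .negSucc 1, .negSucc 0, .ofNat 0, .ofNat 0, .ofNat 0],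
    [.negSucc 0, .negSucc 0, .negSucc 0, .negSucc 0, .negSucc 0, .negSucc 0, .negSucc 0, .negSucc 0],
    [.negSucc 0, .negSucc 0, .negSucc 0, .negSucc 0, .negSucc 0, .negSucc 0, .negSucc 0, .ofNat 0],
    [.negSucc 0, .negSucc 0, .negSucc 0, .negSucc 0, .negSucc 0, .negSucc 0, .ofNat 0, .ofNat 0],
    [.negSucc 0, .negSucc 0, .negSucc 0, .negSucc 0, .negSucc 0, .ofNat 0, .ofNat 0, .ofNat 0],
    [.negSucc 0, .negSucc 0, .negSucc 0, .negSucc 0, .ofNat 0, .ofNat 0, .ofNat 0, .ofNat 0],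
    [.negSucc 0, .ofNat 0, .negSucc 0, .negSucc 0, .negSucc 0, .negSucc 0, .negSucc 0, .negSucc 0],
    [.negSucc 0, .ofNat 0, .negSucc 0, .negSucc 0, .negSucc 0, .negSucc 0, .negSucc 0, .ofNat 0],
    [.negSucc 0, .ofNat 0, .negSucc 0, .negSucc 0, .negSucc 0, .negSucc 0, .ofNat 0, .ofNat 0],
    [.negSucc 0, .ofNat 0, .negSucc 0, .negSucc 0, .negSucc 0, .ofNat 0, .ofNat 0, .ofNat 0],
    [.negSucc 0, .ofNat 0, .negSucc 0, .negSucc 0, .ofNat 0, .ofNat 0, .ofNat 0, .ofNat 0],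
    [.negSucc 0, .ofNat 0, .negSucc 0, .ofNat 0, .ofNat 0, .ofNat 0, .ofNat 0, .ofNat 0],
    [.negSucc 0, .ofNat 0, .ofNat 0, .ofNat 0, .ofNat 0, .ofNat 0, .ofNat 0, .ofNat 0],
    [.ofNat 0, .negSucc 0, .negSucc 0, .negSucc 1, .negSucc 1, .negSucc 1, .negSucc 1, .negSucc 0],
    [.ofNat 0, .negSucc 0, .negSucc 0, .negSucc 1, .negSucc 1, .negSucc 1, .negSucc 0, .negSucc 0],
    [.ofNat 0, .negSucc 0, .negSucc 0, .negSucc 1, .negSucc 1, .negSucc 1, .negSucc 0, .ofNat 0],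
    [.ofNat 0, .negSucc 0, .negSucc 0, .negSucc 1, .negSucc 1, .negSucc 0, .negSucc 0, .negSucc 0],
    [.ofNat 0, .negSucc 0, .negSucc 0, .negSucc 1, .negSucc 1, .negSucc 0, .negSucc 0, .ofNat 0],
    [.ofNat 0, .negSucc 0, .negSucc 0, .negSucc 1, .negSucc 1, .negSucc 0, .ofNat 0, .ofNat 0],
    [.ofNat 0, .negSucc 0, .negSucc 0, .negSucc 1, .negSucc 0, .negSucc 0, .negSucc 0, .negSucc 0],
    [.ofNat 0, .negSucc 0, .negSucc 0, .negSucc 1, .negSucc 0, .negSucc 0, .negSucc 0, .ofNat 0],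
    [.ofNat 0, .negSucc 0, .negSucc 0, .negSucc 1, .negSucc 0, .negSucc 0, .ofNat 0, .ofNat 0],
    [.ofNat 0, .negSucc 0, .negSucc 0, .negSucc 1, .negSucc 0, .ofNat 0, .ofNat 0, .ofNat 0],
    [.ofNat 0, .negSucc 0, .negSucc 0, .negSucc 0, .negSucc 0, .negSucc 0, .negSucc 0, .negSucc 0],
    [.ofNat 0, .negSucc 0, .negSucc 0, .negSucc 0, .negSucc 0, .negSucc 0, .negSucc 0, .ofNat 0],
    [.ofNat 0, .negSucc 0, .negSucc 0, .negSucc 0, .negSucc 0, .negSucc 0, .ofNat 0, .ofNat 0],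
    [.ofNat 0, .negSucc 0, .negSucc 0, .negSucc 0, .negSucc 0, .ofNat 0, .ofNat 0, .ofNat 0],
    [.ofNat 0, .negSucc 0, .negSucc 0, .negSucc 0, .ofNat 0, .ofNat 0, .ofNat 0, .ofNat 0],
    [.ofNat 0, .negSucc 0, .ofNat 0, .negSucc 0, .negSucc 0, .negSucc 0, .negSucc 0, .negSucc 0],
    [.ofNat 0, .negSucc 0, .ofNat 0, .negSucc 0, .negSucc 0, .negSucc 0, .negSucc 0, .ofNat 0],
    [.ofNat 0, .negSucc 0, .ofNat 0, .negSucc 0, .negSucc 0, .negSucc 0, .ofNat 0, .ofNat 0],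
    [.ofNat 0, .negSucc 0, .ofNat 0, .negSucc 0, .negSucc 0, .ofNat 0, .ofNat 0, .ofNat 0],
    [.ofNat 0, .negSucc 0, .ofNat 0, .negSucc 0, .ofNat 0, .ofNat 0, .ofNat 0, .ofNat 0],
    [.ofNat 0, .negSucc 0, .ofNat 0, .ofNat 0, .ofNat 0, .ofNat 0, .ofNat 0, .ofNat 0],
    [.ofNat 0, .ofNat 0, .negSucc 0, .negSucc 0, .negSucc 0, .negSucc 0, .negSucc 0, .negSucc 0],
    [.ofNat 0, .ofNat 0, .negSucc 0, .negSucc 0, .negSucc 0, .negSucc 0, .negSucc 0, .ofNat 0],
    [.ofNat 0, .ofNat 0, .negSucc 0, .negSucc 0, .negSucc 0, .negSucc 0, .ofNat 0, .ofNat 0],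
    [.ofNat 0, .ofNat 0, .negSucc 0, .negSucc 0, .negSucc 0, .ofNat 0, .ofNat 0, .ofNat 0],
    [.ofNat 0, .ofNat 0, .negSucc 0, .negSucc 0, .ofNat 0, .ofNat 0, .ofNat 0, .ofNat 0],
    [.ofNat 0, .ofNat 0, .negSucc 0, .ofNat 0, .ofNat 0, .ofNat 0, .ofNat 0, .ofNat 0],
    [.ofNat 0, .ofNat 0, .ofNat 0, .negSucc 0, .negSucc 0, .negSucc 0, .negSucc 0, .negSucc 0],
    [.ofNat 0, .ofNat 0, .ofNat 0, .negSucc 0, .negSucc 0, .negSucc 0, .negSucc 0, .ofNat 0],
    [.ofNat 0, .ofNat 0, .ofNat 0, .negSucc 0, .negSucc 0, .negSucc 0, .ofNat 0, .ofNat 0],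
    [.ofNat 0, .ofNat 0, .ofNat 0, .negSucc 0, .negSucc 0, .ofNat 0, .ofNat 0, .ofNat 0],
    [.ofNat 0, .ofNat 0, .ofNat 0, .negSucc 0, .ofNat 0, .ofNat 0, .ofNat 0, .ofNat 0],
    [.ofNat 0, .ofNat 0, .ofNat 0, .ofNat 0, .negSucc 0, .negSucc 0, .negSucc 0, .negSucc 0],
    [.ofNat 0, .ofNat 0, .ofNat 0, .ofNat 0, .negSucc 0, .negSucc 0, .negSucc 0, .ofNat 0],
    [.ofNat 0, .ofNat 0, .ofNat 0, .ofNat 0, .negSucc 0, .negSucc 0, .ofNat 0, .ofNat 0],
    [.ofNat 0, .ofNat 0, .ofNat 0, .ofNat 0, .negSucc 0, .ofNat 0, .ofNat 0, .ofNat 0],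
    [.ofNat 0, .ofNat 0, .ofNat 0, .ofNat 0, .ofNat 0, .negSucc 0, .negSucc 0, .negSucc 0],
    [.ofNat 0, .ofNat 0, .ofNat 0, .ofNat 0, .ofNat 0, .negSucc 0, .negSucc 0, .ofNat 0],
    [.ofNat 0, .ofNat 0, .ofNat 0, .ofNat 0, .ofNat 0, .negSucc 0, .ofNat 0, .ofNat 0],
    [.ofNat 0, .ofNat 0, .ofNat 0, .ofNat 0, .ofNat 0, .ofNat 0, .negSucc 0, .negSucc 0],
    [.ofNat 0, .ofNat 0, .ofNat 0, .ofNat 0, .ofNat 0, .ofNat 0, .negSucc 0, .ofNat 0],
    [.ofNat 0, .ofNat 0, .ofNat 0, .ofNat 0, .ofNat 0, .ofNat 0, .ofNat 0, .negSucc 0],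
    [.ofNat 0, .ofNat 0, .ofNat 0, .ofNat 0, .ofNat 0, .ofNat 0, .ofNat 0, .ofNat 1],
    [.ofNat 0, .ofNat 0, .ofNat 0, .ofNat 0, .ofNat 0, .ofNat 0, .ofNat 1, .ofNat 0],
    [.ofNat 0, .ofNat 0, .ofNat 0, .ofNat 0, .ofNat 0, .ofNat 0, .ofNat 1, .ofNat 1],
    [.ofNat 0, .ofNat 0, .ofNat 0, .ofNat 0, .ofNat 0, .ofNat 1, .ofNat 0, .ofNat 0],
    [.ofNat 0, .ofNat 0, .ofNat 0, .ofNat 0, .ofNat 0, .ofNat 1, .ofNat 1, .ofNat 0],
    [.ofNat 0, .ofNat 0, .ofNat 0, .ofNat 0, .ofNat 0, .ofNat 1, .ofNat 1, .ofNat 1],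
    [.ofNat 0, .ofNat 0, .ofNat 0, .ofNat 0, .ofNat 1, .ofNat 0, .ofNat 0, .ofNat 0],
    [.ofNat 0, .ofNat 0, .ofNat 0, .ofNat 0, .ofNat 1, .ofNat 1, .ofNat 0, .ofNat 0],
    [.ofNat 0, .ofNat 0, .ofNat 0, .ofNat 0, .ofNat 1, .ofNat 1, .ofNat 1, .ofNat 0],
    [.ofNat 0, .ofNat 0, .ofNat 0, .ofNat 0, .ofNat 1, .ofNat 1, .ofNat 1, .ofNat 1],
    [.ofNat 0, .ofNat 0, .ofNat 0, .ofNat 1, .ofNat 0, .ofNat 0, .ofNat 0, .ofNat 0],
    [.ofNat 0, .ofNat 0, .ofNat 0, .ofNat 1, .ofNat 1, .ofNat 0, .ofNat 0, .ofNat 0],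
    [.ofNat 0, .ofNat 0, .ofNat 0, .ofNat 1, .ofNat 1, .ofNat 1, .ofNat 0, .ofNat 0],
    [.ofNat 0, .ofNat 0, .ofNat 0, .ofNat 1, .ofNat 1, .ofNat 1, .ofNat 1, .ofNat 0],
    [.ofNat 0, .ofNat 0, .ofNat 0, .ofNat 1, .ofNat 1, .ofNat 1, .ofNat 1, .ofNat 1],
    [.ofNat 0, .ofNat 0, .ofNat 1, .ofNat 0, .ofNat 0, .ofNat 0, .ofNat 0, .ofNat 0],
    [.ofNat 0, .ofNat 0, .ofNat 1, .ofNat 1, .ofNat 0, .ofNat 0, .ofNat 0, .ofNat 0],
    [.ofNat 0, .ofNat 0, .ofNat 1, .ofNat 1, .ofNat 1, .ofNat 0, .ofNat 0, .ofNat 0],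
    [.ofNat 0, .ofNat 0, .ofNat 1, .ofNat 1, .ofNat 1, .ofNat 1, .ofNat 0, .ofNat 0],
    [.ofNat 0, .ofNat 0, .ofNat 1, .ofNat 1, .ofNat 1, .ofNat 1, .ofNat 1, .ofNat 0],
    [.ofNat 0, .ofNat 0, .ofNat 1, .ofNat 1, .ofNat 1, .ofNat 1, .ofNat 1, .ofNat 1],
    [.ofNat 0, .ofNat 1, .ofNat 0, .ofNat 0, .ofNat 0, .ofNat 0, .ofNat 0, .ofNat 0],
    [.ofNat 0, .ofNat 1, .ofNat 0, .ofNat 1, .ofNat 0, .ofNat 0, .ofNat 0, .ofNat 0],
    [.ofNat 0, .ofNat 1, .ofNat 0, .ofNat 1, .ofNat 1, .ofNat 0, .ofNat 0, .ofNat 0],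
    [.ofNat 0, .ofNat 1, .ofNat 0, .ofNat 1, .ofNat 1, .ofNat 1, .ofNat 0, .ofNat 0],
    [.ofNat 0, .ofNat 1, .ofNat 0, .ofNat 1, .ofNat 1, .ofNat 1, .ofNat 1, .ofNat 0],
    [.ofNat 0, .ofNat 1, .ofNat 0, .ofNat 1, .ofNat 1, .ofNat 1, .ofNat 1, .ofNat 1],
    [.ofNat 0, .ofNat 1, .ofNat 1, .ofNat 1, .ofNat 0, .ofNat 0, .ofNat 0, .ofNat 0],
    [.ofNat 0, .ofNat 1, .ofNat 1, .ofNat 1, .ofNat 1, .ofNat 0, .ofNat 0, .ofNat 0],
    [.ofNat 0, .ofNat 1, .ofNat 1, .ofNat 1, .ofNat 1, .ofNat 1, .ofNat 0, .ofNat 0],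
    [.ofNat 0, .ofNat 1, .ofNat 1, .ofNat 1, .ofNat 1, .ofNat 1, .ofNat 1, .ofNat 0],
    [.ofNat 0, .ofNat 1, .ofNat 1, .ofNat 1, .ofNat 1, .ofNat 1, .ofNat 1, .ofNat 1],
    [.ofNat 0, .ofNat 1, .ofNat 1, .ofNat 2, .ofNat 1, .ofNat 0, .ofNat 0, .ofNat 0],
    [.ofNat 0, .ofNat 1, .ofNat 1, .ofNat 2, .ofNat 1, .ofNat 1, .ofNat 0, .ofNat 0],
    [.ofNat 0, .ofNat 1, .ofNat 1, .ofNat 2, .ofNat 1, .ofNat 1, .ofNat 1, .ofNat 0],
    [.ofNat 0, .ofNat 1, .ofNat 1, .ofNat 2, .ofNat 1, .ofNat 1, .ofNat 1, .ofNat 1],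
    [.ofNat 0, .ofNat 1, .ofNat 1, .ofNat 2, .ofNat 2, .ofNat 1, .ofNat 0, .ofNat 0],
    [.ofNat 0, .ofNat 1, .ofNat 1, .ofNat 2, .ofNat 2, .ofNat 1, .ofNat 1, .ofNat 0],
    [.ofNat 0, .ofNat 1, .ofNat 1, .ofNat 2, .ofNat 2, .ofNat 1, .ofNat 1, .ofNat 1],
    [.ofNat 0, .ofNat 1, .ofNat 1, .ofNat 2, .ofNat 2, .ofNat 2, .ofNat 1, .ofNat 0],
    [.ofNat 0, .ofNat 1, .ofNat 1, .ofNat 2, .ofNat 2, .ofNat 2, .ofNat 1, .ofNat 1],
    [.ofNat 0, .ofNat 1, .ofNat 1, .ofNat 2, .ofNat 2, .ofNat 2, .ofNat 2, .ofNat 1],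
    [.ofNat 1, .ofNat 0, .ofNat 0, .ofNat 0, .ofNat 0, .ofNat 0, .ofNat 0, .ofNat 0],
    [.ofNat 1, .ofNat 0, .ofNat 1, .ofNat 0, .ofNat 0, .ofNat 0, .ofNat 0, .ofNat 0],
    [.ofNat 1, .ofNat 0, .ofNat 1, .ofNat 1, .ofNat 0, .ofNat 0, .ofNat 0, .ofNat 0],
    [.ofNat 1, .ofNat 0, .ofNat 1, .ofNat 1, .ofNat 1, .ofNat 0, .ofNat 0, .ofNat 0],
    [.ofNat 1, .ofNat 0, .ofNat 1, .ofNat 1, .ofNat 1, .ofNat 1, .ofNat 0, .ofNat 0],
    [.ofNat 1, .ofNat 0, .ofNat 1, .ofNat 1, .ofNat 1, .ofNat 1, .ofNat 1, .ofNat 0],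
    [.ofNat 1, .ofNat 0, .ofNat 1, .ofNat 1, .ofNat 1, .ofNat 1, .ofNat 1, .ofNat 1],
    [.ofNat 1, .ofNat 1, .ofNat 1, .ofNat 1, .ofNat 0, .ofNat 0, .ofNat 0, .ofNat 0],
    [.ofNat 1, .ofNat 1, .ofNat 1, .ofNat 1, .ofNat 1, .ofNat 0, .ofNat 0, .ofNat 0],
    [.ofNat 1, .ofNat 1, .ofNat 1, .ofNat 1, .ofNat 1, .ofNat 1, .ofNat 0, .ofNat 0],
    [.ofNat 1, .ofNat 1, .ofNat 1, .ofNat 1, .ofNat 1, .ofNat 1, .ofNat 1, .ofNat 0],
    [.ofNat 1, .ofNat 1, .ofNat 1, .ofNat 1, .ofNat 1, .ofNat 1, .ofNat 1, .ofNat 1],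
    [.ofNat 1, .ofNat 1, .ofNat 1, .ofNat 2, .ofNat 1, .ofNat 0, .ofNat 0, .ofNat 0],
    [.ofNat 1, .ofNat 1, .ofNat 1, .ofNat 2, .ofNat 1, .ofNat 1, .ofNat 0, .ofNat 0],
    [.ofNat 1, .ofNat 1, .ofNat 1, .ofNat 2, .ofNat 1, .ofNat 1, .ofNat 1, .ofNat 0],
    [.ofNat 1, .ofNat 1, .ofNat 1, .ofNat 2, .ofNat 1, .ofNat 1, .ofNat 1, .ofNat 1],
    [.ofNat 1, .ofNat 1, .ofNat 1, .ofNat 2, .ofNat 2, .ofNat 1, .ofNat 0, .ofNat 0],
    [.ofNat 1, .ofNat 1, .ofNat 1, .ofNat 2, .ofNat 2, .ofNat 1, .ofNat 1, .ofNat 0],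
    [.ofNat 1, .ofNat 1, .ofNat 1, .ofNat 2, .ofNat 2, .ofNat 1, .ofNat 1, .ofNat 1],
    [.ofNat 1, .ofNat 1, .ofNat 1, .ofNat 2, .ofNat 2, .ofNat 2, .ofNat 1, .ofNat 0],
    [.ofNat 1, .ofNat 1, .ofNat 1, .ofNat 2, .ofNat 2, .ofNat 2, .ofNat 1, .ofNat 1],
    [.ofNat 1, .ofNat 1, .ofNat 1, .ofNat 2, .ofNat 2, .ofNat 2, .ofNat 2, .ofNat 1],
    [.ofNat 1, .ofNat 1, .ofNat 2, .ofNat 2, .ofNat 1, .ofNat 0, .ofNat 0, .ofNat 0],
    [.ofNat 1, .ofNat 1, .ofNat 2, .ofNat 2, .ofNat 1, .ofNat 1, .ofNat 0, .ofNat 0],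
    [.ofNat 1, .ofNat 1, .ofNat 2, .ofNat 2, .ofNat 1, .ofNat 1, .ofNat 1, .ofNat 0],
    [.ofNat 1, .ofNat 1, .ofNat 2, .ofNat 2, .ofNat 1, .ofNat 1, .ofNat 1, .ofNat 1],
    [.ofNat 1, .ofNat 1, .ofNat 2, .ofNat 2, .ofNat 2, .ofNat 1, .ofNat 0, .ofNat 0],
    [.ofNat 1, .ofNat 1, .ofNat 2, .ofNat 2, .ofNat 2, .ofNat 1, .ofNat 1, .ofNat 0],
    [.ofNat 1, .ofNat 1, .ofNat 2, .ofNat 2, .ofNat 2, .ofNat 1, .ofNat 1, .ofNat 1],
    [.ofNat 1, .ofNat 1, .ofNat 2, .ofNat 2, .ofNat 2, .ofNat 2, .ofNat 1, .ofNat 0],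
    [.ofNat 1, .ofNat 1, .ofNat 2, .ofNat 2, .ofNat 2, .ofNat 2, .ofNat 1, .ofNat 1],
    [.ofNat 1, .ofNat 1, .ofNat 2, .ofNat 2, .ofNat 2, .ofNat 2, .ofNat 2, .ofNat 1],
    [.ofNat 1, .ofNat 1, .ofNat 2, .ofNat 3, .ofNat 2, .ofNat 1, .ofNat 0, .ofNat 0],
    [.ofNat 1, .ofNat 1, .ofNat 2, .ofNat 3, .ofNat 2, .ofNat 1, .ofNat 1, .ofNat 0],
    [.ofNat 1, .ofNat 1, .ofNat 2, .ofNat 3, .ofNat 2, .ofNat 1, .ofNat 1, .ofNat 1],
    [.ofNat 1, .ofNat 1, .ofNat 2, .ofNat 3, .ofNat 2, .ofNat 2, .ofNat 1, .ofNat 0],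
    [.ofNat 1, .ofNat 1, .ofNat 2, .ofNat 3, .ofNat 2, .ofNat 2, .ofNat 1, .ofNat 1],
    [.ofNat 1, .ofNat 1, .ofNat 2, .ofNat 3, .ofNat 2, .ofNat 2, .ofNat 2, .ofNat 1],
    [.ofNat 1, .ofNat 1, .ofNat 2, .ofNat 3, .ofNat 3, .ofNat 2, .ofNat 1, .ofNat 0],
    [.ofNat 1, .ofNat 1, .ofNat 2, .ofNat 3, .ofNat 3, .ofNat 2, .ofNat 1, .ofNat 1],
    [.ofNat 1, .ofNat 1, .ofNat 2, .ofNat 3, .ofNat 3, .ofNat 2, .ofNat 2, .ofNat 1],
    [.ofNat 1, .ofNat 1, .ofNat 2, .ofNat 3, .ofNat 3, .ofNat 3, .ofNat 2, .ofNat 1],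
    [.ofNat 1, .ofNat 2, .ofNat 2, .ofNat 3, .ofNat 2, .ofNat 1, .ofNat 0, .ofNat 0],
    [.ofNat 1, .ofNat 2, .ofNat 2, .ofNat 3, .ofNat 2, .ofNat 1, .ofNat 1, .ofNat 0],
    [.ofNat 1, .ofNat 2, .ofNat 2, .ofNat 3, .ofNat 2, .ofNat 1, .ofNat 1, .ofNat 1],
    [.ofNat 1, .ofNat 2, .ofNat 2, .ofNat 3, .ofNat 2, .ofNat 2, .ofNat 1, .ofNat 0],
    [.ofNat 1, .ofNat 2, .ofNat 2, .ofNat 3, .ofNat 2, .ofNat 2, .ofNat 1, .ofNat 1],
    [.ofNat 1, .ofNat 2, .ofNat 2, .ofNat 3, .ofNat 2, .ofNat 2, .ofNat 2, .ofNat 1],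
    [.ofNat 1, .ofNat 2, .ofNat 2, .ofNat 3, .ofNat 3, .ofNat 2, .ofNat 1, .ofNat 0],
    [.ofNat 1, .ofNat 2, .ofNat 2, .ofNat 3, .ofNat 3, .ofNat 2, .ofNat 1, .ofNat 1],
    [.ofNat 1, .ofNat 2, .ofNat 2, .ofNat 3, .ofNat 3, .ofNat 2, .ofNat 2, .ofNat 1],
    [.ofNat 1, .ofNat 2, .ofNat 2, .ofNat 3, .ofNat 3, .ofNat 3, .ofNat 2, .ofNat 1],
    [.ofNat 1, .ofNat 2, .ofNat 2, .ofNat 4, .ofNat 3, .ofNat 2, .ofNat 1, .ofNat 0],
    [.ofNat 1, .ofNat 2, .ofNat 2, .ofNat 4, .ofNat 3, .ofNat 2, .ofNat 1, .ofNat 1],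
    [.ofNat 1, .ofNat 2, .ofNat 2, .ofNat 4, .ofNat 3, .ofNat 2, .ofNat 2, .ofNat 1],
    [.ofNat 1, .ofNat 2, .ofNat 2, .ofNat 4, .ofNat 3, .ofNat 3, .ofNat 2, .ofNat 1],
    [.ofNat 1, .ofNat 2, .ofNat 2, .ofNat 4, .ofNat 4, .ofNat 3, .ofNat 2, .ofNat 1],
    [.ofNat 1, .ofNat 2, .ofNat 3, .ofNat 4, .ofNat 3, .ofNat 2, .ofNat 1, .ofNat 0],
    [.ofNat 1, .ofNat 2, .ofNat 3, .ofNat 4, .ofNat 3, .ofNat 2, .ofNat 1, .ofNat 1],
    [.ofNat 1, .ofNat 2, .ofNat 3, .ofNat 4, .ofNat 3, .ofNat 2, .ofNat 2, .ofNat 1],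
    [.ofNat 1, .ofNat 2, .ofNat 3, .ofNat 4, .ofNat 3, .ofNat 3, .ofNat 2, .ofNat 1],
    [.ofNat 1, .ofNat 2, .ofNat 3, .ofNat 4, .ofNat 4, .ofNat 3, .ofNat 2, .ofNat 1],
    [.ofNat 1, .ofNat 2, .ofNat 3, .ofNat 5, .ofNat 4, .ofNat 3, .ofNat 2, .ofNat 1],
    [.ofNat 1, .ofNat 3, .ofNat 3, .ofNat 5, .ofNat 4, .ofNat 3, .ofNat 2, .ofNat 1],
    [.ofNat 2, .ofNat 2, .ofNat 3, .ofNat 4, .ofNat 3, .ofNat 2, .ofNat 1, .ofNat 0],
    [.ofNat 2, .ofNat 2, .ofNat 3, .ofNat 4, .ofNat 3, .ofNat 2, .ofNat 1, .ofNat 1],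
    [.ofNat 2, .ofNat 2, .ofNat 3, .ofNat 4, .ofNat 3, .ofNat 2, .ofNat 2, .ofNat 1],
    [.ofNat 2, .ofNat 2, .ofNat 3, .ofNat 4, .ofNat 3, .ofNat 3, .ofNat 2, .ofNat 1],
    [.ofNat 2, .ofNat 2, .ofNat 3, .ofNat 4, .ofNat 4, .ofNat 3, .ofNat 2, .ofNat 1],
    [.ofNat 2, .ofNat 2, .ofNat 3, .ofNat 5, .ofNat 4, .ofNat 3, .ofNat 2, .ofNat 1],
    [.ofNat 2, .ofNat 2, .ofNat 4, .ofNat 5, .ofNat 4, .ofNat 3, .ofNat 2, .ofNat 1],
    [.ofNat 2, .ofNat 3, .ofNat 3, .ofNat 5, .ofNat 4, .ofNat 3, .ofNat 2, .ofNat 1],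
    [.ofNat 2, .ofNat 3, .ofNat 4, .ofNat 5, .ofNat 4, .ofNat 3, .ofNat 2, .ofNat 1],
    [.ofNat 2, .ofNat 3, .ofNat 4, .ofNat 6, .ofNat 4, .ofNat 3, .ofNat 2, .ofNat 1],
    [.ofNat 2, .ofNat 3, .ofNat 4, .ofNat 6, .ofNat 5, .ofNat 3, .ofNat 2, .ofNat 1],
    [.ofNat 2, .ofNat 3, .ofNat 4, .ofNat 6, .ofNat 5, .ofNat 4, .ofNat 2, .ofNat 1],
    [.ofNat 2, .ofNat 3, .ofNat 4, .ofNat 6, .ofNat 5, .ofNat 4, .ofNat 3, .ofNat 1],
    [.ofNat 2, .ofNat 3, .ofNat 4, .ofNat 6, .ofNat 5, .ofNat 4, .ofNat 3, .ofNat 2]]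

/-- the opposites of the roots of `E8` -/
def G8 : List ℕ :=
  [239, 238, 237, 236, 235, 234, 233, 232, 231, 230, 229, 228, 227, 226, 225, 224, 223, 222, 221, 220, 219,
  218, 217, 216, 215, 214, 213, 212, 211, 210, 209, 208, 207, 206, 205, 204, 203, 202, 201, 200, 199, 198,
  197, 196, 195, 194, 193, 192, 191, 190, 189, 188, 187, 186, 185, 184, 183, 182, 181, 180, 179, 178, 177,
  176, 175, 174, 173, 172, 171, 170, 169, 168, 167, 166, 165, 164, 163, 162, 161, 160, 159, 158, 157, 156,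
  155, 154, 153, 152, 151, 150, 149, 148, 147, 146, 145, 144, 143, 142, 141, 140, 139, 138, 137, 136, 135,
  134, 133, 132, 131, 130, 129, 128, 127, 126, 125, 124, 123, 122, 121, 120, 119, 118, 117, 116, 115, 114,
  113, 112, 111, 110, 109, 108, 107, 106, 105, 104, 103, 102, 101, 100, 99, 98, 97, 96, 95, 94, 93, 92, 91,
  90, 89, 88, 87, 86, 85, 84, 83, 82, 81, 80, 79, 78, 77, 76, 75, 74, 73, 72, 71, 70, 69, 68, 67, 66, 65, 64,
  63, 62, 61, 60, 59, 58, 57, 56, 55, 54, 53, 52, 51, 50, 49, 48, 47, 46, 45, 44, 43, 42, 41, 40, 39, 38, 37,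
  36, 35, 34, 33, 32, 31, 30, 29, 28, 27, 26, 25, 24, 23, 22, 21, 20, 19, 18, 17, 16, 15, 14, 13, 12, 11, 10,
  9, 8, 7, 6, 5, 4, 3, 2, 1, 0]

/-- the ones -/
def O8 : ℕ :=
  0x10000000100000001000000010000000100000001000000010000000100000001000000010000000100000001000000010000000100000001000000010000000100000001000000010000000100000001000000010000000100000001000000010000000100000001000000010000000100000001000000010000000100000001000000010000000100000001000000010000000100000001000000010000000100000001000000010000000100000001000000010000000100000001000000010000000100000001000000010000000100000001000000010000000100000001000000010000000100000001000000010000000100000001000000010000000100000001000000010000000100000001000000010000000100000001000000010000000100000001000000010000000100000001000000010000000100000001000000010000000100000001000000010000000100000001000000010000000100000001000000010000000100000001000000010000000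100000001000000010000000100000001000000010000000100000001000000010000000100000001000000010000000100000001000000010000000100000001000000010000000100000001000000010000000100000001000000010000000100000001000000010000000100000001000000010000000100000001000000010000000100000001000000010000000100000001000000010000000100000001000000010000000100000001000000010000000100000001000000010000000100000001000000010000000100000001000000010000000100000001000000010000000100000001000000010000000100000001000000010000000100000001000000010000000100000001000000010000000100000001000000010000000100000001000000010000000100000001000000010000000100000001000000010000000100000001000000010000000100000001000000010000000100000001000000010000000100000001000000010000000100000001000000010000000100000001000000010000000100000001000000010000000100000001000000010000000100000001000000010000000100000001000000010000000100000001000000010000000100000001000000010000000100000001000000010000000100000001000000010000000100000001000000010000000100000001000000010000000100000001000000010000000100000001000000010000000100000001000000010000000100000001000000010000000100000001000000010000000100000001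

/-- the bits 31 -/
def F8 : ℕ :=
  0x800000008000000080000000800000008000000080000000800000008000000080000000800000008000000080000000800000008000000080000000800000008000000080000000800000008000000080000000800000008000000080000000800000008000000080000000800000008000000080000000800000008000000080000000800000008000000080000000800000008000000080000000800000008000000080000000800000008000000080000000800000008000000080000000800000008000000080000000800000008000000080000000800000008000000080000000800000008000000080000000800000008000000080000000800000008000000080000000800000008000000080000000800000008000000080000000800000008000000080000000800000008000000080000000800000008000000080000000800000008000000080000000800000008000000080000000800000008000000080000000800000008000000080000000800000008000000080000000800000008000000080000000800000008000000080000000800000008000000080000000800000008000000080000000800000008000000080000000800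000008000000080000000800000008000000080000000800000008000000080000000800000008000000080000000800000008000000080000000800000008000000080000000800000008000000080000000800000008000000080000000800000008000000080000000800000008000000080000000800000008000000080000000800000008000000080000000800000008000000080000000800000008000000080000000800000008000000080000000800000008000000080000000800000008000000080000000800000008000000080000000800000008000000080000000800000008000000080000000800000008000000080000000800000008000000080000000800000008000000080000000800000008000000080000000800000008000000080000000800000008000000080000000800000008000000080000000800000008000000080000000800000008000000080000000800000008000000080000000800000008000000080000000800000008000000080000000800000008000000080000000800000008000000080000000800000008000000080000000800000008000000080000000800000008000000080000000800000008000000080000000800000008000000080000000800000008000000080000000800000008000000080000000800000008000000080000000800000008000000080000000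

theorem n8 : chevE8.nroots = 240 := by decide +kernel

theorem crd8 : (List.range chevE8.nroots).map (crd chevE8 8) = R8 := by decide +kernel

theorem neg8 : (List.range chevE8.nroots).map chevE8.neg = G8 := by decide +kernel

end Cfsg.Agent.H167.RV
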