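import Cfsg.Agent.H167.RV.Good
import Cfsg.Agent.H553.ExcFull
import Cfsg.Agent.H778.ExcMain

/-!
# TEAM RV: `FHall` for exceptional groups, `2, p ∉ π`, at most one prime of `π` divides `|W|` (helper167)

* `fhall_g2`, `fhall_f4`, `fhall_3D4`, `fhall_2F4`, `fhall_tits`, `fhall_ree` : all `π`;
* `fhall_e6_five`, `fhall_2E6_five` (`3 ∉ π`), `fhall_e7_one`, `fhall_e8_one` (at most one of `3, 5, 7` in `π`).
-/

set_option autoImplicit false
set_option linter.unusedSectionVars false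

namespace Cfsg.Agent.H167.RV

open Subgroup Cfsg Cfsg.Lie Cfsg.Lie.ChevalleyDatum Cfsg.Agent.H988.CPi Cfsg.Agent.H571.RV Cfsg.Agent.H553.OddHall
open CoxeterSystem
open Cfsg.Agent.ChevalleyStructure Cfsg.Agent.ChevalleyStructure.Elts Cfsg.Agent.ChevalleyStructure.CoxeterGeom
  Cfsg.Agent.ChevalleyStructure.CoxeterGeomTypes Cfsg.Agent.ChevalleyStructure.NPerm
open Cfsg.Agent.Tits.Roots Cfsg.Agent.Tits.Core Cfsg.Agent.Nodes Cfsg.Agent.Nodes.Reps Cfsg.Agent.Nodes.BNOf
  Cfsg.Agent.Nodes.RGDChev Cfsg.Agent.Nodes.Bruhat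
open Cfsg.Agent.KFacts.RgdField Cfsg.Agent.KFacts.RgdChevCoord Cfsg.Agent.BpExc.TorCent Cfsg.Agent.BpExc.TorChev
open Cfsg.Agent.GpExc.Field Cfsg.Agent.BpExc.Tow Cfsg.Agent.BpExc.TowChev Cfsg.Agent.BpExc.Fr
  Cfsg.Agent.BpExc.LangFr Cfsg.Agent.H795.SetCent Cfsg.Agent.H795.SetTor Cfsg.Agent.H565.NM
open Cfsg.Agent.H795.RowsA Cfsg.Agent.H565.T3
  Cfsg.Agent.BpExc.RowsUntw Cfsg.Agent.H129.TorusChar Cfsg.Agent.H720.TwFr Cfsg.Agent.BpExc

universe u v

section Num

variable {t : ℕ}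

theorem five_le (ht : t.Prime) (h2 : t ≠ 2) (h3 : t ≠ 3) : 5 ≤ t := by
  have := ht.two_le
  by_contra h
  have : t = 4 := by omega
  rw [this] at ht
  exact absurd ht (by norm_num)

theorem seven_le (ht : t.Prime) (h2 : t ≠ 2) (h3 : t ≠ 3) (h5 : t ≠ 5) : 7 ≤ t := by
  have := five_le ht h2 h3
  by_contra h
  have : t = 6 := by omega
  rw [this] at ht
  exact absurd ht (by norm_num)

theorem eleven_le (ht : t.Prime) (h2 : t ≠ 2) (h3 : t ≠ 3) (h5 : t ≠ 5) (h7 : t ≠ 7) : 11 ≤ t := by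
  have := seven_le ht h2 h3 h5
  by_contra h
  have : t = 8 ∨ t = 9 ∨ t = 10 := by omega
  rcases this with rfl | rfl | rfl <;> exact absurd ht (by norm_num)

end Num

variable {G : Type v} [Group G] [Finite G] {π : Set ℕ} {p : ℕ}

theorem ne_of_mem {t : ℕ} (hpπ : p ∉ π) (ht : t ∈ π) : t ≠ p := by rintro rfl; exact hpπ ht

section Untw

variable {F : Type u} [Field F] [Fintype F] [CharP F p] (h2 : 2 ∉ π) (hpπ : p ∉ π)
  (hE : ∃ H : Subgroup G, IsPiHall π H)

include h2 hpπ hE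

theorem fhall_g2 (e : G ≃* ↥(chevG2.group F)) : FHall π G := by
  have hp : p.Prime := CharP.char_is_prime F p
  have hc : ∀ t, t.Prime → t ∈ π → (t : F) ≠ 0 := fun t ht htπ => cast_ne_zero_of_char hp ht (ne_of_mem hpπ htπ)
  refine fhall_generic ((good_untw g2T (F := F)).of_equiv e) Nat.prime_three h2 hE
    (fun t ht htπ ht3 _ => ⟨hc t ht htπ, ?_⟩) (fun h3π t ht htπ ht3 _ => ?_)
  · rw [card_G2]
    exact not_dvd_12 ht (five_le ht (ne_of_mem h2 htπ) ht3)
  · refine PairN.of_equiv e.symm ?_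
    have := five_le ht (ne_of_mem h2 htπ) ht3
    exact pairN_of_noMin Nat.prime_three ht (by norm_num) (by omega) (by omega)
      (noMin_g2 (F := F) (hc 3 Nat.prime_three h3π) (by norm_num) (by omega))

theorem fhall_f4 (e : G ≃* ↥(chevF4.group F)) : FHall π G := by
  have hp : p.Prime := CharP.char_is_prime F p
  have hc : ∀ t, t.Prime → t ∈ π → (t : F) ≠ 0 := fun t ht htπ => cast_ne_zero_of_char hp ht (ne_of_mem hpπ htπ)
  refine fhall_generic ((good_untw f4T (F := F)).of_equiv e) Nat.prime_three h2 hE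
    (fun t ht htπ ht3 _ => ⟨hc t ht htπ, ?_⟩) (fun h3π t ht htπ ht3 _ => ?_)
  · rw [card_F4]
    exact not_dvd_1152 ht (five_le ht (ne_of_mem h2 htπ) ht3)
  · refine PairN.of_equiv e.symm ?_
    have := five_le ht (ne_of_mem h2 htπ) ht3
    exact H572.ExcF.f4_three (by exact_mod_cast hc 3 Nat.prime_three h3π) ht (by omega) (by omega)

/-- `E₆(q)`, `3 ∉ π` -/
theorem fhall_e6_five (h3 : 3 ∉ π) (e : G ≃* ↥(chevE6.group F)) : FHall π G := by
  have hp : p.Prime := CharP.char_is_prime F p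
  have hc : ∀ t, t.Prime → t ∈ π → (t : F) ≠ 0 := fun t ht htπ => cast_ne_zero_of_char hp ht (ne_of_mem hpπ htπ)
  refine fhall_generic ((good_untw e6T (F := F)).of_equiv e) Nat.prime_five h2 hE
    (fun t ht htπ ht5 _ => ⟨hc t ht htπ, ?_⟩) (fun h5π t ht htπ ht5 _ => ?_)
  · rw [card_E6]
    intro h
    have h7 := seven_le ht (ne_of_mem h2 htπ) (ne_of_mem h3 htπ) ht5
    have := dvd_51840 ht (by omega) h
    omega
  · refine PairN.of_equiv e.symm ?_
    have := seven_le ht (ne_of_mem h2 htπ) (ne_of_mem h3 htπ) ht5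
    exact pairN_of_noMin Nat.prime_five ht (by norm_num) (by omega) (by omega)
      (noMin_e6 (F := F) (hc 5 Nat.prime_five h5π) (by norm_num) (by omega) le_rfl)

theorem good_e7 : Good (fun t => (t : F) ≠ 0 ∧ 11 ≤ t) ↥(chevE7.group F) :=
  (good_untw e7T (F := F)).mono fun t ht h => ⟨h.1, fun h1 => by
    rw [card_E7] at h1
    have := dvd_2903040 ht (by omega) h1
    omega⟩

theorem good_e8 : Good (fun t => (t : F) ≠ 0 ∧ 11 ≤ t) ↥(chevE8.group F) :=
  (good_untw e8T (F := F)).mono fun t ht h => ⟨h.1, fun h1 => by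
    rw [card_E8] at h1
    have := dvd_696729600 ht (by omega) h1
    omega⟩

/-- `E₇(q)`, all primes of `π` except `r ∈ {3, 5, 7}` are at least `11`. -/
theorem fhall_e7_one {r : ℕ} (hr : r = 3 ∨ r = 5 ∨ r = 7) (h11 : ∀ t, t.Prime → t ∈ π → t ≠ r → 11 ≤ t)
    (e : G ≃* ↥(chevE7.group F)) : FHall π G := by
  have hp : p.Prime := CharP.char_is_prime F p
  have hc : ∀ t, t.Prime → t ∈ π → (t : F) ≠ 0 := fun t ht htπ => cast_ne_zero_of_char hp ht (ne_of_mem hpπ htπ)
  refine fhall_generic (Good.of_equiv e (good_untw e7T (F := F))) (r := r)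
    (by rcases hr with rfl | rfl | rfl <;> norm_num) h2 hE
    (fun t ht htπ htr _ => ⟨hc t ht htπ, ?_⟩) (fun hrπ t ht htπ htr _ => ?_)
  · intro h1
    rw [card_E7] at h1
    have h3 := h11 t ht htπ htr
    have := dvd_2903040 ht (by omega) h1
    omega
  · refine PairN.of_equiv e.symm ?_
    have h3 := h11 t ht htπ htr
    rcases hr with rfl | hr
    · exact H572.ExcF.e7_three (by exact_mod_cast hc 3 Nat.prime_three hrπ) ht (by omega) (by omega)
    · have hrp : r.Prime := by rcases hr with rfl | rfl <;> norm_num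
      exact pairN_of_noMin hrp ht (by omega) (by omega) (by omega)
        (noMin_e7 (F := F) (hc r hrp hrπ) (by omega) (by omega) (by omega) (by omega))

/-- `PairN t 5` for `E₈(q)` -/
theorem pairN_e8_five (h5 : (5 : F) ≠ 0) {t : ℕ} (ht : t.Prime) (h5t : 5 < t) : PairN t 5 ↥(chevE8.group F) := by
  have h6 : t ≠ 6 := by rintro rfl; exact absurd ht (by norm_num)
  have h0 : ¬ 5 ∣ Fintype.card F := by
    intro h
    obtain ⟨p, n, hp, hpp, hc⟩ := FiniteField.card' F
    rw [hc] at h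
    have h2 := Nat.prime_five.dvd_of_dvd_pow h
    have h3' := (Nat.prime_dvd_prime_iff_eq Nat.prime_five hpp).1 h2
    subst h3'
    exact h5 (by exact_mod_cast CharP.cast_eq_zero F 5)
  have h1 : Fintype.card F % 5 = 1 ∨ Fintype.card F % 5 = 4 ∨ Fintype.card F % 5 = 2 ∨ Fintype.card F % 5 = 3 := by
    omega
  have hsq : Fintype.card F % 5 = 2 ∨ Fintype.card F % 5 = 3 → 5 ∣ Fintype.card F ^ 2 + 1 := by
    intro h
    rw [Nat.dvd_iff_mod_eq_zero, Nat.add_mod, Nat.pow_mod]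
    rcases h with h | h <;> rw [h]
  rcases h1 with h1 | h1 | h1
  · exact H572.ExcF.e8_five h5 (Or.inl (by omega)) ht (by omega) (by omega) (by omega)
  · exact H572.ExcF.e8_five h5 (Or.inr (by omega)) ht (by omega) (by omega) (by omega)
  · exact H574.ExcE8Five.pairN_E8_five (hsq h1) ht (by omega)

/-- `E₈(q)`, all primes of `π` except `r ∈ {3, 5, 7}` are at least `11`. -/
theorem fhall_e8_one {r : ℕ} (hr : r = 3 ∨ r = 5 ∨ r = 7) (h11 : ∀ t, t.Prime → t ∈ π → t ≠ r → 11 ≤ t)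
    (e : G ≃* ↥(chevE8.group F)) : FHall π G := by
  have hp : p.Prime := CharP.char_is_prime F p
  have hc : ∀ t, t.Prime → t ∈ π → (t : F) ≠ 0 := fun t ht htπ => cast_ne_zero_of_char hp ht (ne_of_mem hpπ htπ)
  refine fhall_generic (Good.of_equiv e (good_untw e8T (F := F))) (r := r)
    (by rcases hr with rfl | rfl | rfl <;> norm_num) h2 hE
    (fun t ht htπ htr _ => ⟨hc t ht htπ, ?_⟩) (fun hrπ t ht htπ htr _ => ?_)
  · intro h1
    rw [card_E8] at h1
    have h3 := h11 t ht htπ htr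
    have := dvd_696729600 ht (by omega) h1
    omega
  · refine PairN.of_equiv e.symm ?_
    have h3 := h11 t ht htπ htr
    rcases hr with rfl | rfl | rfl
    · exact H572.ExcF.e8_three (by exact_mod_cast hc 3 Nat.prime_three hrπ) ht (by omega) (by omega)
    · exact pairN_e8_five (F := F) h2 hpπ hE (by exact_mod_cast hc 5 Nat.prime_five hrπ) ht (by omega)
    · exact pairN_of_noMin (by norm_num) ht (by omega) (by omega) (by omega)
        (noMin_e8 (F := F) (hc 7 (by norm_num) hrπ) (by omega) (by omega) (by omega))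

end Untw

section Tw

variable {K : Type u} [Field K] [Fintype K] [CharP K p] {q : ℕ} (hq : IsPrimePow q) (h2 : 2 ∉ π) (hpπ : p ∉ π)
  (hE : ∃ H : Subgroup G, IsPiHall π H)

include hq h2 hpπ hE

theorem fhall_3D4 (hK : Fintype.card K = q ^ 3) (e : G ≃* ↥(twistedD4 K q)) : FHall π G := by
  have hp : p.Prime := CharP.char_is_prime K p
  have hc : ∀ t, t.Prime → t ∈ π → (t : K) ≠ 0 := fun t ht htπ => cast_ne_zero_of_char hp ht (ne_of_mem hpπ htπ)
  obtain ⟨r, n, hr, hrF, hrk, hn0, hn, hk⟩ := H795.Tw.exists_closure_q three_ne_zero hq hK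
  have hG := good_of_emb hp4 r hk (f := (em4 (algebraMap K (AlgebraicClosure K)) (tw4_le hq hK)).comp e.toMonoidHom)
    ((em4_injective _ _).comp e.injective)
  refine fhall_generic hG Nat.prime_three h2 hE
    (fun t ht htπ ht3 _ => ⟨?_, ?_⟩) (fun h3π t ht htπ ht3 _ => ?_)
  · rintro rfl
    exact hc t ht htπ (CharP.cast_eq_zero K t)
  · rw [card_D4]
    exact not_dvd_192 ht (five_le ht (ne_of_mem h2 htπ) ht3)
  · refine PairN.of_equiv e.symm ?_
    have := five_le ht (ne_of_mem h2 htπ) ht3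
    exact pairN_of_noMin Nat.prime_three ht (by norm_num) (by omega) (by omega)
      (noMin_3D4 (K := K) hq (hc 3 Nat.prime_three h3π) (by norm_num) (by omega) hK)

/-- `²E₆(q)`, `3 ∉ π` -/
theorem fhall_2E6_five (h3 : 3 ∉ π) (hK : Fintype.card K = q ^ 2) (e : G ≃* ↥(twistedE6 K q)) : FHall π G := by
  have hp : p.Prime := CharP.char_is_prime K p
  have hc : ∀ t, t.Prime → t ∈ π → (t : K) ≠ 0 := fun t ht htπ => cast_ne_zero_of_char hp ht (ne_of_mem hpπ htπ)
  obtain ⟨r, n, hr, hrF, hrk, hn0, hn, hk⟩ := H795.Tw.exists_closure_q two_ne_zero hq hK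
  have hG := good_of_emb hp6 r hk (f := (em6 q (algebraMap K (AlgebraicClosure K))).comp e.toMonoidHom)
    ((FamTw.Six.em_injective _).comp e.injective)
  have hfin : Finite ↥(twistedE6 K q) := Finite.of_equiv G e.toEquiv
  refine fhall_generic hG Nat.prime_five h2 hE
    (fun t ht htπ ht5 _ => ⟨?_, ?_⟩) (fun h5π t ht htπ ht5 _ => ?_)
  · rintro rfl
    exact hc t ht htπ (CharP.cast_eq_zero K t)
  · rw [card_E6]
    intro h
    have h7 := seven_le ht (ne_of_mem h2 htπ) (ne_of_mem h3 htπ) ht5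
    have := dvd_51840 ht (by omega) h
    omega
  · refine PairN.of_equiv e.symm ?_
    have := seven_le ht (ne_of_mem h2 htπ) (ne_of_mem h3 htπ) ht5
    exact pairN_of_noMin Nat.prime_five ht (by norm_num) (by omega) (by omega)
      (noMin_2E6 (K := K) hq (hc 5 Nat.prime_five h5π) (by norm_num) (by omega) hK le_rfl)

end Tw

section Rest

/-- `²F₄(q)`, `q = 2 ^ (2 * m + 1)`, `m = 0` included -/
theorem good_2F4 {K : Type u} [Field K] [Fintype K] {m : ℕ} (hK : Fintype.card K = 2 ^ (2 * m + 1)) :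
    Good (fun t => 5 ≤ t) ↥(Lie.twistedF4 K (2 ^ m)) := by
  have hch := Cfsg.Agent.ChevalleyStructure.TwF4.Twisted.charP_two hK
  have hfin := H42.Tw.finite_tw (K := K) (2 ^ m)
  have h1 := H42.Tw.charP_closure (K := K)
  have h2 := H42.Tw.locFin_closure (K := K)
  have : Fact (Nat.Prime 2) := ⟨Nat.prime_two⟩
  refine (good_of_emb f4T 2 h2 (f := H42.Tw.jj (algebraMap K (AlgebraicClosure K)) (2 ^ m))
    (H42.Tw.jj_injective _ _)).mono fun t ht h5 => ⟨by omega, ?_⟩
  rw [card_F4]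
  exact not_dvd_1152 ht h5

variable (h2 : 2 ∉ π) (hE : ∃ H : Subgroup G, IsPiHall π H)

include h2 hE

theorem fhall_2F4 (h : Lie.Iso2F4 G) : FHall π G := by
  have hG : Good (fun t => 5 ≤ t) G := by
    obtain ⟨K, _, _, m, hm, hK, ⟨e⟩⟩ := h
    exact (good_2F4 hK).of_equiv e
  refine fhall_generic hG Nat.prime_three h2 hE
    (fun t ht htπ ht3 _ => five_le ht (ne_of_mem h2 htπ) ht3) (fun h3π t ht htπ ht3 _ => ?_)
  have := five_le ht (ne_of_mem h2 htπ) ht3
  exact pairN_of_noMin Nat.prime_three ht (by norm_num) (by omega) (by omega)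
    (noMin_iso2F4 (by norm_num) (by omega) h)

theorem fhall_tits (h : Lie.IsoTits G) : FHall π G := by
  obtain ⟨e⟩ := id h
  have h1 : Good (fun t => 5 ≤ t) ↥(Lie.twistedF4 (ZMod 2) 1) :=
    good_2F4 (K := ZMod 2) (m := 0) (by rw [ZMod.card]; norm_num)
  have hG : Good (fun t => 5 ≤ t) G := Good.of_injective e.toMonoidHom e.injective (h1.subgroup _)
  refine fhall_generic hG Nat.prime_three h2 hE
    (fun t ht htπ ht3 _ => five_le ht (ne_of_mem h2 htπ) ht3) (fun h3π t ht htπ ht3 _ => ?_)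
  have := five_le ht (ne_of_mem h2 htπ) ht3
  exact pairN_of_noMin Nat.prime_three ht (by norm_num) (by omega) (by omega)
    (noMin_isoTits (by norm_num) (by omega) h)

theorem fhall_ree (h3 : 3 ∉ π) (h : Lie.IsoRee G) : FHall π G := by
  obtain ⟨K, _, _, m, hm, hK, ⟨e⟩⟩ := id h
  have hle : Cfsg.Lie.twistedG2 K (3 ^ m) ≤ Cfsg.Lie.chevG2.group K :=
    H778.Exc.genSubgroup_le_group (by simp [Cfsg.Agent.ChevalleyStructure.Elts.InList]) (Cfsg.Lie.g2Words K (3 ^ m))
  have hch : CharP K 3 := by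
    obtain ⟨p, hp'⟩ := CharP.exists K
    have hp : p.Prime := CharP.char_is_prime K p
    have h1 : p ∣ Fintype.card K := by
      have := (CharP.cast_eq_zero_iff K p (Fintype.card K)).1 (FiniteField.cast_card_eq_zero K)
      exact this
    rw [hK] at h1
    have h4 := (Nat.prime_dvd_prime_iff_eq hp Nat.prime_three).1 (hp.dvd_of_dvd_pow h1)
    rwa [h4] at hp'
  have hG : Good (fun t => 5 ≤ t) G :=
    ((good_untw g2T (F := K)).of_injective ((Subgroup.inclusion hle).comp e.toMonoidHom)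
      ((Subgroup.inclusion_injective hle).comp e.injective)).mono fun t ht h5 =>
      ⟨cast_ne_zero_of_char (p := 3) Nat.prime_three ht (by omega), by
        rw [card_G2]
        exact not_dvd_12 ht h5⟩
  exact fhall_generic hG Nat.prime_three h2 hE
    (fun t ht htπ ht3 _ => five_le ht (ne_of_mem h2 htπ) ht3) (fun h3π => absurd h3π h3)

end Rest

end Cfsg.Agent.H167.RV
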