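import Cfsg.Agent.H167.RV.Good
import Cfsg.Agent.H42.Tw.SzRee

/-!
# TEAM RV: `FHall` for the Suzuki groups (helper167)

* `comm_of_norm` : an element of odd order normalising a cyclic group of odd order `≠ 1` of `Sz(q)` centralises it;
* `fhall_suz`.
-/

set_option autoImplicit false
set_option linter.unusedSectionVars false

namespace Cfsg.Agent.H167.RV

open Subgroup Cfsg Cfsg.Agent.H988.CPi Cfsg.Agent.H571.RV Cfsg.Agent.H553.OddHall Cfsg.Agent.H565.NM
open Matrix MulAction Cfsg.Agent.H167.OP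
open Cfsg.Agent.LieExceptional Cfsg.Agent.LieExceptional.SuzukiBasic Cfsg.Agent.LieExceptional.SuzukiCN

section Hyp

variable {G Ω : Type*} [Group G] [Finite G] [MulAction G Ω] [Finite Ω] {q : ℕ} (HH : SuzukiTori.Hyp G Ω q)

include HH

theorem fix_of_norm {d y : G} (hd1 : d ≠ 1) (hy : Odd (orderOf y)) (hn : y⁻¹ * d * y ∈ zpowers d) {α : Ω}
    (hα : d • α = α) : y • α = α := by
  classical
  have hmove : ∀ ω : Ω, d • ω = ω → d • (y • ω) = y • ω := by
    intro ω hω
    have h1 : (y⁻¹ * d * y) • ω = ω := by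
      have h2 : zpowers d ≤ stabilizer G ω := by
        rw [zpowers_le]
        exact hω
      exact h2 hn
    have h2 : d * y = y * (y⁻¹ * d * y) := by group
    rw [← mul_smul, h2, mul_smul, h1]
  by_contra e1
  by_cases e3 : y • (y • α) = α
  · apply e1
    have hs : y ^ 2 ∈ stabilizer G α := by
      rw [mem_stabilizer_iff, pow_two, mul_smul, e3]
    obtain ⟨k, hk⟩ := hy
    have : y = (y ^ 2) ^ (k + 1) := by
      rw [← pow_mul]
      have : 2 * (k + 1) = orderOf y + 1 := by omega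
      rw [this, pow_succ, pow_orderOf_eq_one, one_mul]
    have h4 : (y ^ 2) ^ (k + 1) ∈ stabilizer G α := pow_mem hs _
    rw [← this, mem_stabilizer_iff] at h4
    exact h4
  · have e2 : y • (y • α) ≠ y • α := fun h => e1 (smul_left_cancel y h)
    have h5 : ({α, y • α, y • (y • α)} : Finset Ω).card = 3 := by
      rw [Finset.card_eq_three]
      exact ⟨_, _, _, Ne.symm e1, Ne.symm e3, Ne.symm e2, rfl⟩
    have h6 : (({α, y • α, y • (y • α)} : Finset Ω) : Set Ω) ⊆ fixedBy Ω d := by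
      intro x hx
      simp only [Finset.coe_insert, Finset.coe_singleton, Set.mem_insert_iff,
        Set.mem_singleton_iff] at hx
      rw [mem_fixedBy]
      rcases hx with rfl | rfl | rfl
      · exact hα
      · exact hmove _ hα
      · exact hmove _ (hmove _ hα)
    have h7 := Set.ncard_le_ncard h6 (Set.toFinite _)
    rw [Set.ncard_coe_finset, h5] at h7
    have h2 := HH.three d hd1
    rw [Nat.card_coe_set_eq] at h2
    omega

theorem exists_two {d : G} (hd1 : d ≠ 1) (hd : Odd (orderOf d)) {α : Ω} (hα : d • α = α) :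
    ∃ β : Ω, β ≠ α ∧ d • β = β := by
  classical
  -- a power of prime order
  obtain ⟨p, hp, hpd⟩ := Nat.exists_prime_and_dvd (fun h => hd1 (orderOf_eq_one_iff.1 h))
  set d' := d ^ (orderOf d / p) with hd'
  have hd'o : orderOf d' = p := by
    rw [hd', orderOf_pow_of_dvd (Nat.div_pos (Nat.le_of_dvd (orderOf_pos d) hpd) hp.pos).ne' (Nat.div_dvd_of_dvd hpd),
      Nat.div_div_self hpd (orderOf_pos d).ne']
  have hd'1 : d' ≠ 1 := by
    intro h
    rw [h, orderOf_one] at hd'o
    exact hp.one_lt.ne hd'o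
  have hp2 : p ≠ 2 := by
    rintro rfl
    exact (Nat.not_even_iff_odd.2 hd) (even_iff_two_dvd.2 hpd)
  have hd'α : d' • α = α := by
    have h1 : d ∈ stabilizer G α := hα
    exact pow_mem h1 _
  have hmod := SuzukiTori.card_modEq_fixedBy (Ω := Ω) hp (h := d') (by rw [← hd'o]; exact pow_orderOf_eq_one _)
  have hle := HH.three d' hd'1
  -- `p ∣ q - 1`
  have hpq : p ∣ q - 1 := by
    have h1 : Nat.card (stabilizer G α) * Nat.card Ω = Nat.card G := by
      have hpre : IsPretransitive G Ω := by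
        have := HH.two
        exact isPretransitive_of_is_two_pretransitive
      have h2 := index_stabilizer_of_transitive G α
      rw [← h2]
      exact (stabilizer G α).card_mul_index
    rw [HH.card_set, HH.card_group] at h1
    have h3 := Nat.eq_of_mul_eq_mul_right (Nat.succ_pos _) h1
    have h4 : p ∣ Nat.card (stabilizer G α) := by
      have h9 := Subgroup.orderOf_dvd_natCard (stabilizer G α) (x := d') hd'α
      rwa [hd'o] at h9
    rw [h3] at h4
    rcases (hp.dvd_mul).1 h4 with h5 | h5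
    · exfalso
      obtain ⟨m, -, hm⟩ := HH.q_eq
      rw [hm, ← pow_mul] at h5
      exact hp2 ((Nat.prime_dvd_prime_iff_eq hp Nat.prime_two).1 (hp.dvd_of_dvd_pow h5))
    · exact h5
  have h2 : Nat.card Ω ≡ 2 [MOD p] := by
    rw [HH.card_set]
    have h8 := HH.eight_le
    have e : q ^ 2 + 1 = (q - 1) * (q + 1) + 2 := by
      obtain ⟨m, rfl⟩ : ∃ m, q = m + 1 := ⟨q - 1, by omega⟩
      rw [Nat.add_sub_cancel]
      ring
    rw [e]
    have h3 : (q - 1) * (q + 1) ≡ 0 [MOD p] := (Nat.modEq_zero_iff_dvd).2 (hpq.mul_right _)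
    simpa using h3.add_right 2
  have hcard : Nat.card (fixedBy Ω d') = 2 := by
    have h3 := (h2.symm.trans hmod)
    have h4 : 2 ≤ p := hp.two_le
    have h5 : 1 ≤ Nat.card (fixedBy Ω d') := by
      have : Nonempty (fixedBy Ω d') := ⟨⟨α, hd'α⟩⟩
      exact Nat.card_pos
    have h6 : Nat.card (fixedBy Ω d') = 1 ∨ Nat.card (fixedBy Ω d') = 2 := by omega
    rcases h6 with h6 | h6
    · exfalso
      rw [h6] at h3
      have h7 : p ∣ 2 - 1 := (Nat.modEq_iff_dvd' (by norm_num)).1 h3.symm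
      exact hp.one_lt.ne' (Nat.dvd_one.1 h7)
    · exact h6
  -- `β`
  have hnt : ∃ β : Ω, β ≠ α ∧ d' • β = β := by
    have h3 : 1 < Nat.card (fixedBy Ω d') := by omega
    rw [Finite.one_lt_card_iff_nontrivial] at h3
    obtain ⟨β, hβ⟩ := exists_ne (⟨α, hd'α⟩ : fixedBy Ω d')
    exact ⟨β.1, fun h => hβ (Subtype.ext h), β.2⟩
  obtain ⟨β, hβ, hβ'⟩ := hnt
  refine ⟨β, hβ, ?_⟩
  by_contra hne
  -- `d` moves `β` inside the fixed points of `d'`
  have h3 : d' • (d • β) = d • β := by
    have hc : Commute d' d := (Commute.refl d).pow_left _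
    rw [← mul_smul, hc.eq, mul_smul, hβ']
  have h4 : d • β ≠ α := by
    intro h
    apply hβ
    have h5 : d • β = d • α := by rw [h, hα]
    exact smul_left_cancel d h5
  have h5 : ({α, β, d • β} : Finset Ω).card = 3 := by
    rw [Finset.card_eq_three]
    exact ⟨_, _, _, Ne.symm hβ, Ne.symm h4, Ne.symm hne, rfl⟩
  have h6 : (({α, β, d • β} : Finset Ω) : Set Ω) ⊆ fixedBy Ω d' := by
    intro x hx
    simp only [Finset.coe_insert, Finset.coe_singleton, Set.mem_insert_iff,
      Set.mem_singleton_iff] at hx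
    rw [mem_fixedBy]
    rcases hx with rfl | rfl | rfl
    · exact hd'α
    · exact hβ'
    · exact h3
  have h7 := Set.ncard_le_ncard h6 (Set.toFinite _)
  rw [Set.ncard_coe_finset, h5] at h7
  rw [Nat.card_coe_set_eq] at hcard
  omega

/-- the free case -/
theorem comm_free {d y : G} (hd : d ∈ SuzukiTori.Hyp.free G Ω) (hy : Odd (orderOf y))
    (hn : y ∈ normalizer ((centralizer ({d} : Set G) : Subgroup G) : Set G)) : y ∈ centralizer ({d} : Set G) := by
  classical
  set C : Subgroup G := centralizer ({d} : Set G) with hC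
  set N : Subgroup G := normalizer (C : Set G) with hN
  have h1 := HH.norm_of_free hd
  have hCN : C ≤ N := le_normalizer
  have hcard : Nat.card C * C.relIndex N = Nat.card N := by
    have h2 := (C.subgroupOf N).card_mul_index
    rw [Nat.card_congr (subgroupOfEquivOfLe hCN).toEquiv] at h2
    exact h2
  have h3 : C.relIndex N ≤ 4 := by
    have h4 : 0 < Nat.card C := Nat.card_pos
    rw [← hcard, mul_comm] at h1
    exact Nat.le_of_mul_le_mul_right h1 h4
  have hpos : 0 < C.relIndex N := Nat.pos_of_ne_zero Subgroup.index_ne_zero_of_finite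
  have hnorm : (C.subgroupOf N).Normal := normal_in_normalizer
  have h5 : y ^ C.relIndex N ∈ C := by
    have h6 := (C.subgroupOf N).pow_index_mem (⟨y, hn⟩ : N)
    exact mem_subgroupOf.1 h6
  have h6 : y ^ orderOf y ∈ C := by rw [pow_orderOf_eq_one]; exact one_mem _
  have h3y : ¬ 3 ∣ orderOf y := fun h => HH.three_not_dvd (h.trans (orderOf_dvd_natCard y))
  have hcop : Nat.Coprime (C.relIndex N) (orderOf y) := by
    have h7 : C.relIndex N = 1 ∨ C.relIndex N = 2 ∨ C.relIndex N = 3 ∨ C.relIndex N = 4 := by omega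
    rcases h7 with h | h | h | h
    · rw [h]; exact Nat.coprime_one_left _
    · rw [h]; exact Nat.coprime_two_left.2 hy
    · rw [h]; exact (Nat.Prime.coprime_iff_not_dvd Nat.prime_three).2 h3y
    · rw [h]
      exact Nat.Coprime.pow_left 2 (Nat.coprime_two_left.2 hy)
  exact mem_of_pow_mem_coprime h5 h6 hcop

end Hyp

variable {F : Type*} [Field F] [Fintype F] {m : ℕ}

/-- **An element of odd order normalising `⟨d⟩`, `d ≠ 1` of odd order, centralises it.** -/
theorem comm_of_norm (hm : 1 ≤ m) (hF : Fintype.card F = 2 ^ (2 * m + 1)) {d y : Cfsg.Sz F m} (hd1 : d ≠ 1)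
    (hd : Odd (orderOf d)) (hy : Odd (orderOf y)) (hn : y ∈ normalizer ((zpowers d : Subgroup (Cfsg.Sz F m)) : Set _)) :
    y * d = d * y := by
  have : Finite (Cfsg.suzukiOvoid F m) := Finite.of_equiv _ (SuzukiBasic.ovoidEquiv F m)
  have HH := SuzukiHyp.hyp hm hF
  have hn1 : y * d * y⁻¹ ∈ zpowers d := (mem_normalizer_iff.1 hn d).1 (mem_zpowers d)
  have hn2 : y⁻¹ * d * y ∈ zpowers d := by
    have := (mem_normalizer_iff.1 (inv_mem hn) d).1 (mem_zpowers d)
    rwa [inv_inv] at this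
  by_cases hfree : d ∈ SuzukiTori.Hyp.free (Cfsg.Sz F m) (Cfsg.suzukiOvoid F m)
  · have h1 := comm_free HH hfree hy (by
      have key : ∀ z ∈ normalizer ((zpowers d : Subgroup (Cfsg.Sz F m)) : Set _),
          ∀ c ∈ centralizer ({d} : Set (Cfsg.Sz F m)), z * c * z⁻¹ ∈ centralizer ({d} : Set (Cfsg.Sz F m)) := by
        intro z hz c hc
        have h2 : z⁻¹ * d * z ∈ zpowers d := by
          have := (mem_normalizer_iff.1 (inv_mem hz) d).1 (mem_zpowers d)
          rwa [inv_inv] at this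
        have h3 : Commute c (z⁻¹ * d * z) := by
          obtain ⟨j, hj⟩ := mem_zpowers_iff.1 h2
          rw [← hj]
          exact (show Commute c d from mem_centralizer_singleton_iff.1 hc).zpow_right j
        rw [mem_centralizer_singleton_iff]
        calc z * c * z⁻¹ * d = z * (c * (z⁻¹ * d * z)) * z⁻¹ := by group
          _ = z * ((z⁻¹ * d * z) * c) * z⁻¹ := by rw [h3.eq]
          _ = d * (z * c * z⁻¹) := by group
      rw [mem_normalizer_iff]
      intro c
      refine ⟨fun hc => key y hn c hc, fun hc => ?_⟩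
      have h4 := key y⁻¹ (inv_mem hn) _ hc
      have e : y⁻¹ * (y * c * y⁻¹) * y⁻¹⁻¹ = c := by group
      rwa [e] at h4)
    exact mem_centralizer_singleton_iff.1 h1
  rw [SuzukiTori.Hyp.mem_free_iff] at hfree
  push Not at hfree
  obtain ⟨α, hα⟩ := hfree
  obtain ⟨β, hβ, hβd⟩ := exists_two HH hd1 hd hα
  have hyα := fix_of_norm HH hd1 hy hn2 hα
  have hyβ := fix_of_norm HH hd1 hy hn2 hβd
  obtain ⟨x, hx, hxα, hxβ⟩ := exists_smul_eq hF α.2 β.2 (fun h => hβ (Subtype.ext h.symm))
  have hxα' : x⁻¹ • Cfsg.suzukiPointInfinity F = α := by rw [inv_smul_eq_iff, hxα]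
  have hxβ' : x⁻¹ • Cfsg.suzukiPointZero F = β := by rw [inv_smul_eq_iff, hxβ]
  have key : ∀ g : Cfsg.Sz F m, g • α = α → g • β = β → ∃ k : Fˣ, x * (g : SpecialLinearGroup (Fin 4) F) * x⁻¹ = H m k := by
    intro g hgα hgβ
    have h1 : (g : SpecialLinearGroup (Fin 4) F) • (α : Projectivization F (Fin 4 → F)) = α := congrArg Subtype.val hgα
    have h2 : (g : SpecialLinearGroup (Fin 4) F) • (β : Projectivization F (Fin 4 → F)) = β := congrArg Subtype.val hgβ
    exact eq_H_of_fix_two hm hF (mul_mem (mul_mem hx g.2) (inv_mem hx))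
      (by rw [mul_smul, mul_smul, hxα', h1, hxα]) (by rw [mul_smul, mul_smul, hxβ', h2, hxβ])
  obtain ⟨k₁, h₁⟩ := key y hyα hyβ
  obtain ⟨k₂, h₂⟩ := key d hα hβd
  apply Subtype.ext
  show (y : SpecialLinearGroup (Fin 4) F) * d = d * y
  have e1 : (y : SpecialLinearGroup (Fin 4) F) * d = x⁻¹ * ((x * y * x⁻¹) * (x * d * x⁻¹)) * x := by group
  have e2 : (d : SpecialLinearGroup (Fin 4) F) * y = x⁻¹ * ((x * d * x⁻¹) * (x * y * x⁻¹)) * x := by group
  rw [e1, e2, h₁, h₂, H_mul, H_mul, mul_comm]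

theorem odd_of_pow {G : Type*} [Group G] {t : ℕ} (ht : t.Prime) (ht2 : t ≠ 2) {y : G} (hy : ∃ k : ℕ, y ^ t ^ k = 1) :
    Odd (orderOf y) := by
  obtain ⟨k, hk⟩ := hy
  exact ((ht.odd_of_ne_two ht2).pow).of_dvd_nat (orderOf_dvd_of_pow_eq_one hk)

theorem good_sz (hm : 1 ≤ m) (hF : Fintype.card F = 2 ^ (2 * m + 1))
    (hcyc : ∀ t : ℕ, t.Prime → t ≠ 2 → ∀ Q : Subgroup (Cfsg.Sz F m), IsPGroup t Q → IsCyclic Q) :
    Good (fun t => t ≠ 2) (Cfsg.Sz F m) where
  noMin s t hs ht hs2 ht2 hst := by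
    intro y D hD
    have hc := hcyc s hs hs2 D hD.isPGroup
    obtain ⟨⟨d, hdD⟩, hd⟩ := hc.exists_generator
    have hz : zpowers d = D := by
      apply le_antisymm
      · rw [zpowers_le]; exact hdD
      · intro x hx
        obtain ⟨j, hj⟩ := mem_zpowers_iff.1 (hd ⟨x, hx⟩)
        exact ⟨j, congrArg Subtype.val hj⟩
    have hd1 : d ≠ 1 := by
      rintro rfl
      apply hD.ncen
      intro x hx
      rw [← hz, zpowers_one_eq_bot, mem_bot] at hx
      rw [hx, mul_one, one_mul]
    have hn : y ∈ normalizer ((zpowers d : Subgroup (Cfsg.Sz F m)) : Set _) := by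
      rw [hz]
      exact mem_normalizer_of_nrm hD.nrm
    have h1 := comm_of_norm hm hF hd1 (odd_of_pow hs hs2 (hD.hD d hdD)) (odd_of_pow ht ht2 hD.hy) hn
    apply hD.ncen
    intro x hx
    rw [← hz] at hx
    obtain ⟨j, rfl⟩ := mem_zpowers_iff.1 hx
    exact (show Commute y d from h1).zpow_right j
  abel t ht ht2 Q hQ a ha b hb := by
    have hc := hcyc t ht ht2 Q hQ
    obtain ⟨g, hg⟩ := hc.exists_generator
    obtain ⟨i, hi⟩ := mem_zpowers_iff.1 (hg ⟨a, ha⟩)
    obtain ⟨j, hj⟩ := mem_zpowers_iff.1 (hg ⟨b, hb⟩)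
    have e : (⟨a, ha⟩ : Q) * ⟨b, hb⟩ = ⟨b, hb⟩ * ⟨a, ha⟩ := by
      rw [← hi, ← hj, ← _root_.zpow_add, ← _root_.zpow_add, add_comm]
    exact congrArg Subtype.val e

/-- **`Sz(q)`** -/
theorem fhall_suz {G : Type*} [Group G] [Finite G] {π : Set ℕ} (h2 : 2 ∉ π) (hE : ∃ H : Subgroup G, IsPiHall π H)
    (h : Lie.IsoSuzuki G) : FHall π G := by
  have hG : Good (fun t => t ≠ 2) G := by
    obtain ⟨F, iF, iF', m, hm, hF, ⟨f⟩⟩ := id h
    obtain ⟨e⟩ := Cfsg.Agent.OddCyclic.ClaimC.SzIso.iso (F := F) hm hF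
    have : Finite (Cfsg.Sz F m) := Finite.of_equiv G (f.trans e.symm).toEquiv
    refine (good_sz hm hF fun t ht ht2 Q hQ => ?_).of_equiv (f.trans e.symm)
    have hft : Fact t.Prime := ⟨ht⟩
    have h1 := Cfsg.Agent.OddRank.SzTits.isCyclic_of_isPGroup h ht2 (Q.comap (f.trans e.symm).toMonoidHom)
      (hQ.comap_of_injective _ (f.trans e.symm).injective)
    have h3 : (Q.comap (f.trans e.symm).toMonoidHom).map (f.trans e.symm).toMonoidHom = Q :=
      map_comap_eq_self_of_surjective (f.trans e.symm).surjective Q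
    have h4 : IsCyclic ((Q.comap (f.trans e.symm).toMonoidHom).map (f.trans e.symm).toMonoidHom) :=
      isCyclic_of_surjective ((f.trans e.symm).toMonoidHom.subgroupMap (Q.comap (f.trans e.symm).toMonoidHom))
        ((f.trans e.symm).toMonoidHom.subgroupMap_surjective _)
    rwa [h3] at h4
  exact fhall_generic hG Nat.prime_two h2 hE (fun t _ _ ht2 _ => ht2) (fun h3 => absurd h3 h2)

end Cfsg.Agent.H167.RV
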