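import Cfsg.Agent.H167.RV.TorC
import Cfsg.Agent.H167.RV.ChkSE6
import Cfsg.Agent.H167.RV.ChkSE7
import Cfsg.Agent.H167.RV.ChkSE8
import Cfsg.Agent.H167.RV.RowsA
import Cfsg.Agent.H565.RowP1

/-!
# TEAM RV: the exceptional groups, `3 ∈ π`, or `5 ∣ q² - 1` (helper167)
-/

set_option autoImplicit false
set_option linter.unusedSectionVars false

namespace Cfsg.Agent.H167.RV

open CoxeterSystem Cfsg Cfsg.Lie Cfsg.Lie.ChevalleyDatum
open Cfsg.Agent.ChevalleyStructure Cfsg.Agent.ChevalleyStructure.Elts Cfsg.Agent.ChevalleyStructure.CoxeterGeom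
  Cfsg.Agent.ChevalleyStructure.CoxeterGeomTypes Cfsg.Agent.ChevalleyStructure.NPerm
open Cfsg.Agent.Tits.Roots Cfsg.Agent.Tits.Core Cfsg.Agent.Nodes Cfsg.Agent.Nodes.Reps Cfsg.Agent.Nodes.BNOf
  Cfsg.Agent.Nodes.RGDChev Cfsg.Agent.Nodes.Bruhat
open Cfsg.Agent.KFacts.RgdField Cfsg.Agent.KFacts.RgdChevCoord Cfsg.Agent.BpExc.TorCent Cfsg.Agent.BpExc.TorChev
open Cfsg.Agent.GpExc.Field Cfsg.Agent.BpExc.Tow Cfsg.Agent.BpExc.TowChev Cfsg.Agent.BpExc.Fr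
  Cfsg.Agent.BpExc.LangFr Cfsg.Agent.H129.TorusChar Cfsg.Agent.H129.TorusMain Cfsg.Agent.H123.ExcZ
open Cfsg.Agent.BpExc Cfsg.Agent.H795.LangT Cfsg.Agent.H795.Core Cfsg.Agent.H795.NotAbT
open Cfsg.Agent.H572.ExcA Cfsg.Agent.H572.ExcB Cfsg.Agent.H572.ExcC Cfsg.Agent.H572.ExcD Cfsg.Agent.H572.LatQ
  Cfsg.Agent.H572.LatForm Cfsg.Agent.H572.ExcE Cfsg.Agent.H572.ExcF
open Cfsg.Agent.H988.CPi Cfsg.Agent.H571.RV Cfsg.Agent.H553.OddHall Cfsg.Agent.H565.CharCnt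
open Cfsg.Agent.H167.EX (gE6)
open Cfsg.Agent.BpExc.RowsUntw Cfsg.Agent.H720.TwFr Cfsg.Agent.H795.NotAbRows
open Cfsg.Agent.H565.NM (cast_ne_zero_of_char)
open Subgroup

universe u v

theorem isPiHall_map' {π : Set ℕ} {S : Type u} {T : Type v} [Group S] [Group T] (e : S ≃* T) {H : Subgroup S}
    (h : IsPiHall π H) : IsPiHall π (H.map e.toMonoidHom) := by
  refine ⟨fun p hp hd => h.1 p hp ?_, fun p hp hpi hd => h.2 p hp hpi ?_⟩
  · rwa [Subgroup.card_map_of_injective (f := e.toMonoidHom) e.injective] at hd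
  · rwa [show (H.map e.toMonoidHom).index = H.index from Subgroup.index_map_equiv H e] at hd

theorem FHall.of_equiv {G : Type u} [Group G] {G' : Type v} [Group G'] {π : Set ℕ} (e : G ≃* G') (h : FHall π G') :
    FHall π G := by
  obtain ⟨r, hr, H, A, hH, hAH, hn, hc, hA, hi⟩ := h
  refine ⟨r, hr, H.map e.symm.toMonoidHom, A.map e.symm.toMonoidHom, isPiHall_map' e.symm hH,
    Subgroup.map_mono hAH, ?_, ?_, ?_, ?_⟩
  · rintro _ ⟨x, hx, rfl⟩
    rw [Subgroup.mem_normalizer_iff]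
    intro y
    have h1 := Subgroup.mem_normalizer_iff.1 (hn hx) (e y)
    constructor
    · rintro ⟨a, ha, rfl⟩
      have h2 : x * a * x⁻¹ ∈ A := (Subgroup.mem_normalizer_iff.1 (hn hx) a).1 ha
      refine ⟨_, h2, ?_⟩
      simp only [map_mul, map_inv]
    · rintro ⟨a, ha, h3⟩
      have h4 : a = x * e y * x⁻¹ := by
        have h5 := congrArg e h3
        simpa using h5
      have h5 : e y ∈ A := h1.2 (by rw [← h4]; exact ha)
      exact ⟨e y, h5, by simp⟩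
  · rintro _ ⟨a, ha, rfl⟩ _ ⟨b, hb, rfl⟩
    rw [← map_mul, ← map_mul, hc a ha b hb]
  · rw [Subgroup.card_map_of_injective e.symm.injective]
    exact hA
  · have : (A.map e.symm.toMonoidHom).relIndex (H.map e.symm.toMonoidHom) = A.relIndex H :=
      Subgroup.relIndex_map_map_of_injective A H e.symm.injective
    rw [this]
    exact hi

theorem exists_hall_equiv {G : Type u} [Group G] {G' : Type v} [Group G'] {π : Set ℕ} (e : G ≃* G')
    (h : ∃ H : Subgroup G, IsPiHall π H) : ∃ H : Subgroup G', IsPiHall π H := by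
  obtain ⟨H, hH⟩ := h
  exact ⟨_, isPiHall_map' e hH⟩

section Fun

variable {D : ChevalleyDatum} {l : ℕ} {M : CoxeterMatrix (Fin l)} {hp : IsType D l M}
  {k : Type u} [Field k] [IsAlgClosed k] {r e : ℕ} [Fact r.Prime] [CharP k r]
  {G : Type v} [Group G] {κ : G →* ↥(D.group k)} {τ : MulAut ↥(D.group k)}
  {θ : (Fin l → ℤ) ≃+ (Fin l → ℤ)}

/-- **the functionals** -/
theorem fhall_fun [Finite G] (hk : LocFin k) (h : Emb hp r e κ τ θ) {d : ℕ} {Bi : Fin l → Fin l → ℤ}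
    (hB : InvC D l d Bi) (hd : d ≠ 0) (hmem : ∀ y, τ y = y → ∃ x, κ x = y) {s : ℕ} [hs : Fact s.Prime] (hs2 : s ≠ 2)
    (hsr : s ≠ r) {m : ℕ} (Nf : Fin m → Fin l → ℤ)
    (hN : ∀ j x, (s : ℤ) ∣ (∑ i, Nf j i * (θ x) i) - (r : ℤ) ^ e * ∑ i, Nf j i * x i) {g : ℕ → ℕ}
    (K : ChkS D s (fun j b => ∑ i, Nf j i * vec D l b i) g) (O : Ort D g)
    (h0 : 0 < D.nroots) {π : Set ℕ} (h2 : 2 ∉ π) (hsπ : s ∈ π) (hrπ : r ∉ π) (hE : ∃ H : Subgroup G, IsPiHall π H)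
    (hPN : ∀ t, t.Prime → t ∈ π → t ≠ s → t ∣ Nat.card G → PairN t s G) : FHall π G := by
  obtain ⟨ζ, hζ⟩ := exists_zeta_pow (k := k) (r := r) (s := s) (a := 1) hsr
  rw [pow_one] at hζ
  have hNz : NeZero s := ⟨hs.out.ne_zero⟩
  have h1 : ∀ j, ∃ a ∈ TG κ, ∀ x, cX hp (κ a) x = ζ ^ (∑ i, Nf j i * x i) := by
    intro j
    let c : (Fin l → ℤ) →+ ZMod s :=
      { toFun := fun x => ((∑ i, Nf j i * x i : ℤ) : ZMod s)
        map_zero' := by simp
        map_add' := fun x z => by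
          rw [← Int.cast_add, ← Finset.sum_add_distrib]
          congr 1
          exact Finset.sum_congr rfl fun i _ => by rw [Pi.add_apply, mul_add] }
    obtain ⟨t, ht, hct, htN, hτt⟩ := exists_tor_fix hp hB hd h.frob h.fr hζ c (fun x => by
      show ((∑ i, Nf j i * (θ x) i : ℤ) : ZMod s) = ((r ^ e : ℕ) : ZMod s) * ((∑ i, Nf j i * x i : ℤ) : ZMod s)
      have h3 := (ZMod.intCast_zmod_eq_zero_iff_dvd _ _).2 (hN j x)
      push_cast at h3 ⊢
      exact sub_eq_zero.1 h3)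
    obtain ⟨x, rfl⟩ := hmem t hτt
    refine ⟨x, ht, fun z => ?_⟩
    rw [hct]
    exact (zpow_eq_pow_val hζ _)
  choose a ha hax using h1
  exact fhall_emb hk h hs.out hs2 hζ K O h0 a ha (fun j b _ => hax j _) h2 hsπ hrπ hE hPN

end Fun

variable {G : Type v} [Group G] [Finite G] {π : Set ℕ} {p : ℕ}

section Untw

variable {F : Type u} [Field F] [Fintype F] [CharP F p] (h2 : 2 ∉ π) (hpπ : p ∉ π)
  (hE : ∃ H : Subgroup G, IsPiHall π H)

include h2 hpπ hE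

/-- `E₇(q)`, `3 ∈ π` -/
theorem fhall_e7_three (h3 : 3 ∈ π) (e : G ≃* ↥(chevE7.group F)) : FHall π G := by
  have hp : p.Prime := CharP.char_is_prime F p
  have h3F : (3 : F) ≠ 0 := by exact_mod_cast cast_ne_zero_of_char (F := F) hp Nat.prime_three (ne_of_mem hpπ h3)
  have : Fact (Nat.Prime 3) := ⟨Nat.prime_three⟩
  obtain ⟨ε, hε, hq⟩ := exists_eps _ (three_cases h3F)
  obtain ⟨w, hw⟩ := exists_w e7T negE7 hε
  refine FHall.of_equiv e (fhall_untw e7T datE7 (s := 3) (by norm_num) (by exact_mod_cast h3F) w hw hq chkSE7_three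
    ortE7 (by decide +kernel) h2 h3 hpπ (exists_hall_equiv e hE) fun t ht htπ ht3 _ => ?_)
  exact e7_three h3F ht (ne_of_mem h2 htπ) ht3

/-- `E₈(q)`, `3 ∈ π` -/
theorem fhall_e8_three (h3 : 3 ∈ π) (e : G ≃* ↥(chevE8.group F)) : FHall π G := by
  have hp : p.Prime := CharP.char_is_prime F p
  have h3F : (3 : F) ≠ 0 := by exact_mod_cast cast_ne_zero_of_char (F := F) hp Nat.prime_three (ne_of_mem hpπ h3)
  have : Fact (Nat.Prime 3) := ⟨Nat.prime_three⟩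
  obtain ⟨ε, hε, hq⟩ := exists_eps _ (three_cases h3F)
  obtain ⟨w, hw⟩ := exists_w e8T negE8 hε
  refine FHall.of_equiv e (fhall_untw e8T datE8 (s := 3) (by norm_num) (by exact_mod_cast h3F) w hw hq chkSE8_three
    ortE8 (by decide +kernel) h2 h3 hpπ (exists_hall_equiv e hE) fun t ht htπ ht3 _ => ?_)
  exact e8_three h3F ht (ne_of_mem h2 htπ) ht3

/-- `E₇(q)`, `3 ∉ π`, `5 ∈ π`, `5 ∣ q² - 1` -/
theorem fhall_e7_five (h3 : 3 ∉ π) (h5 : 5 ∈ π)
    (hq : (5 : ℤ) ∣ (Fintype.card F : ℤ) - 1 ∨ (5 : ℤ) ∣ (Fintype.card F : ℤ) - (-1 : ℤ))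
    (e : G ≃* ↥(chevE7.group F)) : FHall π G := by
  have hp : p.Prime := CharP.char_is_prime F p
  have h5F : (5 : F) ≠ 0 := by exact_mod_cast cast_ne_zero_of_char (F := F) hp Nat.prime_five (ne_of_mem hpπ h5)
  have : Fact (Nat.Prime 5) := ⟨Nat.prime_five⟩
  obtain ⟨ε, hε, hq'⟩ := exists_eps (s := 5) _ hq
  obtain ⟨w, hw⟩ := exists_w e7T negE7 hε
  refine FHall.of_equiv e (fhall_untw e7T datE7 (s := 5) (by norm_num) (by exact_mod_cast h5F) w hw hq' chkSE7_five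
    ortE7 (by decide +kernel) h2 h5 hpπ (exists_hall_equiv e hE) fun t ht htπ ht5 _ => ?_)
  exact e7_five h5F hq ht (ne_of_mem h2 htπ) (ne_of_mem h3 htπ) ht5

/-- `E₈(q)`, `3 ∉ π`, `5 ∈ π`, `5 ∣ q² - 1` -/
theorem fhall_e8_five (h3 : 3 ∉ π) (h5 : 5 ∈ π)
    (hq : (5 : ℤ) ∣ (Fintype.card F : ℤ) - 1 ∨ (5 : ℤ) ∣ (Fintype.card F : ℤ) - (-1 : ℤ))
    (e : G ≃* ↥(chevE8.group F)) : FHall π G := by
  have hp : p.Prime := CharP.char_is_prime F p
  have h5F : (5 : F) ≠ 0 := by exact_mod_cast cast_ne_zero_of_char (F := F) hp Nat.prime_five (ne_of_mem hpπ h5)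
  have : Fact (Nat.Prime 5) := ⟨Nat.prime_five⟩
  obtain ⟨ε, hε, hq'⟩ := exists_eps (s := 5) _ hq
  obtain ⟨w, hw⟩ := exists_w e8T negE8 hε
  refine FHall.of_equiv e (fhall_untw e8T datE8 (s := 5) (by norm_num) (by exact_mod_cast h5F) w hw hq' chkSE8_five
    ortE8 (by decide +kernel) h2 h5 hpπ (exists_hall_equiv e hE) fun t ht htπ ht5 _ => ?_)
  have := five_le ht (ne_of_mem h2 htπ) (ne_of_mem h3 htπ)
  exact e8_five h5F hq ht (ne_of_mem h2 htπ) (ne_of_mem h3 htπ) ht5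

/-- `E₆(q)`, `3 ∈ π`, `3 ∣ q - 1` -/
theorem fhall_e6_three_one (h3 : 3 ∈ π) (hq3 : Fintype.card F % 3 = 1) (e : G ≃* ↥(chevE6.group F)) :
    FHall π G := by
  have hp : p.Prime := CharP.char_is_prime F p
  have h3F : (3 : F) ≠ 0 := by exact_mod_cast cast_ne_zero_of_char (F := F) hp Nat.prime_three (ne_of_mem hpπ h3)
  have : Fact (Nat.Prime 3) := ⟨Nat.prime_three⟩
  have hq : ((3 : ℕ) : ℤ) ∣ (Fintype.card F : ℤ) - 1 := by omega
  refine FHall.of_equiv e (fhall_untw e6T datE6 (s := 3) (by norm_num) (by exact_mod_cast h3F) 1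
    (fun x => by rw [map_one, Module.End.one_apply, one_smul]) hq chkSE6_three
    ortE6' (by decide +kernel) h2 h3 hpπ (exists_hall_equiv e hE) fun t ht htπ ht3 _ => ?_)
  exact e6_three_one h3F hq3 ht (ne_of_mem h2 htπ) ht3

omit h2 hpπ hE in
theorem sum_gE6 (j : Fin 4) (x : Fin 6 → ℤ) :
    ∑ i, NfE6 j i * (H565.E6Lat.g x) i = ∑ i, NfE6 j i * x i := by
  obtain ⟨a0, a1, a2, a3, a4, a5⟩ := H565.E6Lat.g_apply x
  simp only [Fin.sum_univ_succ, Fin.sum_univ_zero, Fin.succ_zero_eq_one, Fin.reduceSucc, a0, a1, a2, a3, a4, a5]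
  fin_cases j <;> simp [NfE6] <;> ring

/-- `E₆(q)`, `3 ∈ π`, `3 ∣ q + 1` -/
theorem fhall_e6_three_two (h3 : 3 ∈ π) (hq3 : Fintype.card F % 3 = 2) (e : G ≃* ↥(chevE6.group F)) :
    FHall π G := by
  have hp : p.Prime := CharP.char_is_prime F p
  have h3F : (3 : F) ≠ 0 := by exact_mod_cast cast_ne_zero_of_char (F := F) hp Nat.prime_three (ne_of_mem hpπ h3)
  have : Fact (Nat.Prime 3) := ⟨Nat.prime_three⟩
  refine FHall.of_equiv e ?_
  have hE' := exists_hall_equiv e hE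
  have hGf : Finite ↥(chevE6.group F) := inferInstance
  have hPN : ∀ t, t.Prime → t ∈ π → t ≠ 3 → t ∣ Nat.card ↥(chevE6.group F) → PairN t 3 ↥(chevE6.group F) := by
    intro t ht htπ ht3 _
    have : Fact t.Prime := ⟨ht⟩
    exact H565.RowP1.pairN_E6 h3F hq3 (ne_of_mem h2 htπ) ht3
  obtain ⟨r, n, hr, hrF, hrk, he, hqF, hk⟩ := Cfsg.Agent.H129.TorusUntw.exists_closure (F := F) rfl
  have hrp : p = r := CharP.eq F ‹_› hrF
  subst hrp
  have h3r : 3 ≠ p := (ne_of_mem hpπ h3)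
  have hroot : ∀ a : F, ∃ b : F, b ^ 3 = a := exists_root_of_coprime three_ne_zero (by
    refine Nat.Coprime.symm ((Nat.Prime.coprime_iff_not_dvd Nat.prime_three).2 fun h2 => ?_)
    omega)
  have hset := setup_untw_all hp6 hk (algebraMap F (AlgebraicClosure F)) he hqF invC_E6 three_ne_zero hroot 3
  obtain ⟨κ, τ, z, hEm, hκ, hb⟩ := exists_emb (hp := hp6) hk hset.inj he hset.frob hset.fr hset.fix hset.fin
    Cfsg.Agent.H795.NotAbData.E6.c6
  have hθ : ∀ x, ((AddEquiv.refl (Fin 6 → ℤ)).trans (repAut CoxeterMatrix.E₆.toCoxeterSystem hp6.isCartan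
      Cfsg.Agent.H795.NotAbData.E6.c6)) x = (-1 : ℤ) • H565.E6Lat.g x := by
    intro x
    have h1 := eps_of_mat (hp := hp6) (g := permE rho6) (w := Cfsg.Agent.H795.NotAbData.E6.c6)
      (U := Cfsg.Agent.H795.NotAbData.E6.c6M) (ε := -1) perm6_mat
      (Cfsg.Agent.H795.NotAbData.E6.is_c6 hp6) (by decide +kernel) (H565.E6Lat.g x)
    have h2 : permE rho6 (H565.E6Lat.g x) = x := H565.E6Lat.g_g x
    rw [h2] at h1
    rw [H565.RowP1.refl_trans hp6, h1]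
  refine fhall_fun hk hEm invC_E6 three_ne_zero (fun y hy => ?_) (by norm_num) h3r NfE6 (fun j x => ?_) chkSgE6
    ortgE6 (by decide +kernel) h2 h3 hpπ hE' hPN
  · obtain ⟨x, hx⟩ := Cfsg.Agent.H129.TorusUntw.fix_range hp6 CoxeterMatrix.E₆.toCoxeterSystem
      (algebraMap F (AlgebraicClosure F)) hqF invC_E6 three_ne_zero hroot (hb y hy)
    refine ⟨x, ?_⟩
    rw [hκ, hx]
    group
  · rw [hθ]
    have h1 : ∑ i, NfE6 j i * ((-1 : ℤ) • H565.E6Lat.g x) i = -∑ i, NfE6 j i * x i := by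
      rw [← sum_gE6 j x, ← Finset.sum_neg_distrib]
      exact Finset.sum_congr rfl fun i _ => by
        show NfE6 j i * ((-1 : ℤ) • H565.E6Lat.g x i) = _
        rw [smul_eq_mul]; ring
    rw [h1]
    obtain ⟨c, hc⟩ : (3 : ℤ) ∣ (p : ℤ) ^ n + 1 := by
      have : ((p : ℤ) ^ n) = (Fintype.card F : ℤ) := by rw [hqF]; push_cast; rfl
      rw [this]
      omega
    refine ⟨-c * ∑ i, NfE6 j i * x i, ?_⟩
    push_cast
    linear_combination (-∑ i, NfE6 j i * x i) * hc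

end Untw

section Tw

variable {K : Type u} [Field K] [Fintype K] [CharP K p] {q : ℕ} (hq : IsPrimePow q) (h2 : 2 ∉ π) (hpπ : p ∉ π)
  (hE : ∃ H : Subgroup G, IsPiHall π H)

include hq h2 hpπ hE

set_option maxRecDepth 100000 in
/-- `²E₆(q)`, `3 ∈ π`, `3 ∣ q + 1` -/
theorem fhall_2E6_three_two (h3 : 3 ∈ π) (hF : Fintype.card K = q ^ 2) (hq3 : q % 3 = 2)
    (e : G ≃* ↥(twistedE6 K q)) : FHall π G := by
  have hp : p.Prime := CharP.char_is_prime K p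
  have h3F : (3 : K) ≠ 0 := by exact_mod_cast cast_ne_zero_of_char (F := K) hp Nat.prime_three (ne_of_mem hpπ h3)
  have : Fact (Nat.Prime 3) := ⟨Nat.prime_three⟩
  refine FHall.of_equiv e ?_
  have hE' := exists_hall_equiv e hE
  have hG : Finite ↥(twistedE6 K q) := inferInstance
  have hPN : ∀ t, t.Prime → t ∈ π → t ≠ 3 → t ∣ Nat.card ↥(twistedE6 K q) → PairN t 3 ↥(twistedE6 K q) :=
    fun t ht htπ ht3 _ => twE6_three_two h3F hq hF hq3 ht (ne_of_mem h2 htπ) ht3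
  obtain ⟨r, n, hr, hrF, hrk, hn0, hn, hk⟩ := Cfsg.Agent.H795.Tw.exists_closure_q two_ne_zero hq hF
  have hrp : p = r := CharP.eq K ‹_› hrF
  subst hrp
  have hpr : 3 ≠ p := (ne_of_mem hpπ h3)
  have : Fact (Nat.Prime 5) := ⟨by norm_num⟩
  have hset := Cfsg.Agent.H795.Tw.setup_six (algebraMap K (AlgebraicClosure K)) p hk hn0 hn hF (p := 5) (by norm_num)
  have hcm := comm_mem_of_split (TT_comm Cfsg.Agent.H720.TwFr.hp6) hset.norm hset.fix (fun y hy => by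
      have hφ : ∀ t : AlgebraicClosure K, iterateFrobenius (AlgebraicClosure K) p n t = t ^ q :=
        fun t => by rw [iterateFrobenius_def, hn]
      obtain ⟨x, hx, t, ht, e⟩ := EmbInst.twE6_split (f := algebraMap K (AlgebraicClosure K)) hq hF hφ y.2
        (by rw [← Cfsg.Agent.H720.TwFr.coe_sig6, hy])
      exact ⟨⟨x, hx⟩, ⟨t, diagonal_le_group Cfsg.Agent.H720.TwFr.hp6.inList _ ht⟩, ht, Subtype.ext e⟩)
  obtain ⟨κ, τ, z, hEm, hκ, hb⟩ := exists_emb (hp := hp6) hk hset.inj hn0 hset.frob hset.fr hset.fix hset.fin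
    Cfsg.Agent.H795.NotAbData.E6.c6
  have hcm' := fun a b => comm_of_comm (κ := κ) (τ := τ) hκ hb hcm a b
  have hθ0 : ∀ x, rep CoxeterMatrix.E₆.toCoxeterSystem hp6.isCartan Cfsg.Agent.H795.NotAbData.E6.c6
      (permE rho6 x) = (-1 : ℤ) • x :=
    eps_of_mat (hp := Cfsg.Agent.H720.TwFr.hp6) (g := permE rho6) (w := Cfsg.Agent.H795.NotAbData.E6.c6)
      (U := Cfsg.Agent.H795.NotAbData.E6.c6M) (ε := -1) perm6_mat
      (Cfsg.Agent.H795.NotAbData.E6.is_c6 Cfsg.Agent.H720.TwFr.hp6) (by decide +kernel)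
  have hθ : ∀ x, ((permE rho6).trans (repAut CoxeterMatrix.E₆.toCoxeterSystem hp6.isCartan
      Cfsg.Agent.H795.NotAbData.E6.c6)) x = (-1 : ℤ) • x := hθ0
  refine fhall_full hk hEm datE6.hB datE6.hd0 hθ hcm' (by norm_num) hpr ?_ chkSE6_three
    ortE6' (by decide +kernel) h2 h3 hpπ hE' hPN
  have h1 : ((p : ℤ) ^ n) = (q : ℤ) := by rw [hn]; push_cast; rfl
  rw [h1]
  push_cast
  omega

/-- `²E₆(q)`, `3 ∈ π`, `3 ∣ q - 1` -/
theorem fhall_2E6_three_one (h3 : 3 ∈ π) (hF : Fintype.card K = q ^ 2) (hq3 : q % 3 = 1)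
    (e : G ≃* ↥(twistedE6 K q)) : FHall π G := by
  have hp : p.Prime := CharP.char_is_prime K p
  have h3F : (3 : K) ≠ 0 := by exact_mod_cast cast_ne_zero_of_char (F := K) hp Nat.prime_three (ne_of_mem hpπ h3)
  have : Fact (Nat.Prime 3) := ⟨Nat.prime_three⟩
  refine FHall.of_equiv e ?_
  have hE' := exists_hall_equiv e hE
  have hG : Finite ↥(twistedE6 K q) := inferInstance
  have hPN : ∀ t, t.Prime → t ∈ π → t ≠ 3 → t ∣ Nat.card ↥(twistedE6 K q) → PairN t 3 ↥(twistedE6 K q) := by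
    intro t ht htπ ht3 _
    have : Fact t.Prime := ⟨ht⟩
    exact H565.RowP1.pairN_twE6 h3F hq hF hq3 (ne_of_mem h2 htπ) ht3
  obtain ⟨r, n, hr, hrF, hrk, hn0, hn, hk⟩ := Cfsg.Agent.H795.Tw.exists_closure_q two_ne_zero hq hF
  have hrp : p = r := CharP.eq K ‹_› hrF
  subst hrp
  have hpr : 3 ≠ p := (ne_of_mem hpπ h3)
  have : Fact (Nat.Prime 5) := ⟨by norm_num⟩
  have hset := Cfsg.Agent.H795.Tw.setup_six (algebraMap K (AlgebraicClosure K)) p hk hn0 hn hF (p := 5) (by norm_num)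
  obtain ⟨κ, τ, z, hEm, hκ, hb⟩ := exists_emb (hp := hp6) hk hset.inj hn0 hset.frob hset.fr hset.fix hset.fin 1
  have hθ : ∀ x, ((permE rho6).trans (repAut CoxeterMatrix.E₆.toCoxeterSystem hp6.isCartan
      (1 : CoxeterMatrix.E₆.Group))) x = H565.E6Lat.g x := by
    intro x
    show rep CoxeterMatrix.E₆.toCoxeterSystem hp6.isCartan 1 (permE rho6 x) = H565.E6Lat.g x
    rw [map_one, Module.End.one_apply]
  refine fhall_fun hk hEm invC_E6 three_ne_zero (fun y hy => ?_) (by norm_num) hpr NfE6 (fun j x => ?_) chkSgE6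
    ortgE6 (by decide +kernel) h2 h3 hpπ hE' hPN
  · have h1 := desc6 (algebraMap K (AlgebraicClosure K)) p hk hn0 hn hF (hb y hy)
    have h2 : Nat.gcd 3 (q + 1) = 1 := by
      refine (Nat.Prime.coprime_iff_not_dvd Nat.prime_three).2 fun h5 => ?_
      omega
    rw [h2, pow_one] at h1
    obtain ⟨x, hx⟩ := h1
    refine ⟨x, ?_⟩
    rw [hκ, hx]
    group
  · rw [hθ, sum_gE6]
    obtain ⟨c, hc⟩ : (3 : ℤ) ∣ (p : ℤ) ^ n - 1 := by
      have : ((p : ℤ) ^ n) = (q : ℤ) := by rw [hn]; push_cast; rfl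
      rw [this]
      omega
    refine ⟨-c * ∑ i, NfE6 j i * x i, ?_⟩
    push_cast
    linear_combination (-∑ i, NfE6 j i * x i) * hc

end Tw

end Cfsg.Agent.H167.RV
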