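import Cfsg.Agent.H167.RV.TorD
import Cfsg.Agent.H167.RV.ChkSE8b

/-!
# TEAM RV: `E8(q)`, `5 ∈ π`, `q² ≡ -1 (mod 5)`, and the final rows `E6`, `2E6`, `E8` (helper167)
-/

set_option autoImplicit false
set_option linter.unusedSectionVars false

namespace Cfsg.Agent.H167.RV

open CoxeterSystem Cfsg Cfsg.Lie Cfsg.Lie.ChevalleyDatum
open Cfsg.Agent.ChevalleyStructure Cfsg.Agent.ChevalleyStructure.Elts Cfsg.Agent.ChevalleyStructure.CoxeterGeom
  Cfsg.Agent.ChevalleyStructure.CoxeterGeomTypes Cfsg.Agent.ChevalleyStructure.NPerm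
open Cfsg.Agent.Tits.Roots Cfsg.Agent.Tits.Core Cfsg.Agent.Nodes Cfsg.Agent.Nodes.Reps Cfsg.Agent.Nodes.BNOf
  Cfsg.Agent.Nodes.RGDChev Cfsg.Agent.Nodes.Bruhat
open Cfsg.Agent.KFacts.RgdField Cfsg.Agent.KFacts.RgdChevCoord Cfsg.Agent.BpExc.TorCent Cfsg.Agent.BpExc.TorChev
open Cfsg.Agent.GpExc.Field Cfsg.Agent.BpExc.Tow Cfsg.Agent.BpExc.TowChev Cfsg.Agent.BpExc.Fr
  Cfsg.Agent.BpExc.LangFr Cfsg.Agent.H129.TorusChar Cfsg.Agent.H129.TorusMain Cfsg.Agent.H123.ExcZ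
open Cfsg.Agent.BpExc Cfsg.Agent.H795.LangT Cfsg.Agent.H795.Core Cfsg.Agent.H795.NotAbT
open Cfsg.Agent.H572.ExcA Cfsg.Agent.H572.ExcB Cfsg.Agent.H572.ExcC Cfsg.Agent.H572.ExcD Cfsg.Agent.H572.LatQ
  Cfsg.Agent.H572.LatForm Cfsg.Agent.H572.ExcE Cfsg.Agent.H572.ExcF
open Cfsg.Agent.H988.CPi Cfsg.Agent.H571.RV Cfsg.Agent.H553.OddHall Cfsg.Agent.H565.CharCnt
open Cfsg.Agent.BpExc.RowsUntw Cfsg.Agent.H720.TwFr Cfsg.Agent.H795.NotAbRows
open Cfsg.Agent.H565.NM (cast_ne_zero_of_char)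
open Cfsg.Agent.H574.ExcE8Five (th th_mat dot dot_apply cvec dot_cvec_th fv gv)
open Subgroup

universe u v

variable {G : Type v} [Group G] [Finite G] {π : Set ℕ} {p : ℕ}

/-- the functionals -/
theorem NfE8_eq (q0 : ℤ) (j : Fin 4) (x : Fin 8 → ℤ) :
    ∑ i, NfE8 q0 j i * x i = dot (cvec (fun i => if i = j then 1 else 0) q0) x := by
  rw [dot_apply]
  refine Finset.sum_congr rfl fun m _ => ?_
  have : cvec (fun i => if i = j then 1 else 0) q0 m = NfE8 q0 j m := by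
    unfold cvec NfE8
    rw [Finset.sum_eq_single j]
    · show (if j = j then (1 : ℤ) else 0) * _ = _
      rw [if_pos rfl, one_mul]
    · intro b _ hb
      show (if b = j then (1 : ℤ) else 0) * _ = _
      rw [if_neg hb, zero_mul]
    · intro h
      exact absurd (Finset.mem_univ j) h
  rw [this, mul_comm]

theorem th_eq (x : Fin 8 → ℤ) : ((AddEquiv.refl (Fin 8 → ℤ)).trans (repAut CoxeterMatrix.E₈.toCoxeterSystem
    e8T.isCartan Cfsg.Agent.H795.NotAbData.E8.u5)) x = th x := by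
  unfold th
  generalize Cfsg.Agent.H795.NotAbData.E8.u5 = w
  rfl

section Untw

variable {F : Type u} [Field F] [Fintype F] [CharP F p] (h2 : 2 ∉ π) (hpπ : p ∉ π)
  (hE : ∃ H : Subgroup G, IsPiHall π H)

include h2 hpπ hE

/-- `E₈(q)`, `3 ∉ π`, `5 ∈ π`, `5 ∣ q² + 1` -/
theorem fhall_e8_four (h3 : 3 ∉ π) (h5 : 5 ∈ π) (hq : 5 ∣ Fintype.card F ^ 2 + 1)
    (e : G ≃* ↥(chevE8.group F)) : FHall π G := by
  have hp : p.Prime := CharP.char_is_prime F p
  have h5F : (5 : F) ≠ 0 := by exact_mod_cast cast_ne_zero_of_char (F := F) hp Nat.prime_five (ne_of_mem hpπ h5)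
  have : Fact (Nat.Prime 5) := ⟨Nat.prime_five⟩
  refine FHall.of_equiv e ?_
  have hE' := exists_hall_equiv e hE
  have hGf : Finite ↥(chevE8.group F) := inferInstance
  have hPN : ∀ t, t.Prime → t ∈ π → t ≠ 5 → t ∣ Nat.card ↥(chevE8.group F) → PairN t 5 ↥(chevE8.group F) := by
    intro t ht htπ ht5 _
    have := five_le ht (ne_of_mem h2 htπ) (ne_of_mem h3 htπ)
    exact Cfsg.Agent.H574.ExcE8Five.pairN_E8_five hq ht (seven_le ht (ne_of_mem h2 htπ) (ne_of_mem h3 htπ) ht5)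
  obtain ⟨r, n, hr, hrF, hrk, he, hqF, hk⟩ := Cfsg.Agent.H129.TorusUntw.exists_closure (F := F) rfl
  have hrp : p = r := CharP.eq F ‹_› hrF
  subst hrp
  have h5r : 5 ≠ p := (ne_of_mem hpπ h5)
  have hset := Cfsg.Agent.H795.NotAbRows.setup_untw_all (D := chevE8) (M := CoxeterMatrix.E₈) e8T hk
    (algebraMap F (AlgebraicClosure F)) he hqF invC_E8 one_ne_zero (fun b => ⟨b, pow_one b⟩) 5
  obtain ⟨κ, τ, z, hEm, hκ, hb⟩ := exists_emb (hp := e8T) hk hset.inj he hset.frob hset.fr hset.fix hset.fin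
    Cfsg.Agent.H795.NotAbData.E8.u5
  have hmem : ∀ y, τ y = y → ∃ x, κ x = y := by
    intro y hy
    obtain ⟨x, hx⟩ := Cfsg.Agent.H129.TorusUntw.fix_range e8T CoxeterMatrix.E₈.toCoxeterSystem
      (algebraMap F (AlgebraicClosure F)) hqF invC_E8 one_ne_zero (fun b => ⟨b, pow_one b⟩) (hb y hy)
    refine ⟨x, ?_⟩
    rw [hκ, hx]
    group
  have hθ : ∀ x, ((AddEquiv.refl (Fin 8 → ℤ)).trans (repAut CoxeterMatrix.E₈.toCoxeterSystem e8T.isCartan
      Cfsg.Agent.H795.NotAbData.E8.u5)) x = th x := fun x => th_eq x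
  have hqZ : (5 : ℤ) ∣ ((p : ℤ) ^ n) ^ 2 + 1 := by
    rw [hqF] at hq
    exact_mod_cast hq
  -- the general computation
  have key : ∀ q0 : ℤ, (5 : ℤ) ∣ (p : ℤ) ^ n - q0 → ∀ (j : Fin 4) (x : Fin 8 → ℤ),
      ((5 : ℕ) : ℤ) ∣ (∑ i, NfE8 q0 j i * (((AddEquiv.refl (Fin 8 → ℤ)).trans (repAut
        CoxeterMatrix.E₈.toCoxeterSystem e8T.isCartan Cfsg.Agent.H795.NotAbData.E8.u5)) x) i) -
        (p : ℤ) ^ n * ∑ i, NfE8 q0 j i * x i := by
    rintro q0 ⟨c, hc⟩ j x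
    rw [hθ, NfE8_eq, NfE8_eq, dot_cvec_th]
    obtain ⟨d, hd⟩ := hqZ
    generalize dot (cvec (fun i => if i = j then 1 else 0) q0) x = A
    generalize ∑ r, x r * ∑ i, (if i = j then (1 : ℤ) else 0) * gv i r = B
    have hpn : (p : ℤ) ^ n = q0 + 5 * c := by linear_combination hc
    rw [hpn] at hd ⊢
    refine ⟨-(c * A) - (d - 2 * q0 * c - 5 * c ^ 2) * B, ?_⟩
    push_cast
    linear_combination -B * hd
  have hcase : (5 : ℤ) ∣ (p : ℤ) ^ n - 2 ∨ (5 : ℤ) ∣ (p : ℤ) ^ n - 3 := by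
    generalize (p : ℤ) ^ n = a at hqZ
    have h0 : a % 5 = 0 ∨ a % 5 = 1 ∨ a % 5 = 2 ∨ a % 5 = 3 ∨ a % 5 = 4 := by omega
    have h1 := Int.emod_emod_of_dvd (a ^ 2 + 1) (dvd_refl (5 : ℤ))
    have h2 : (a ^ 2 + 1) % 5 = 0 := Int.emod_eq_zero_of_dvd hqZ
    rw [pow_two, Int.add_emod, Int.mul_emod] at h2
    rcases h0 with h | h | h | h | h <;> rw [h] at h2 <;> first | (exfalso; revert h2; decide) | skip
    · left; omega
    · right; omega
  rcases hcase with h | h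
  · exact fhall_fun hk hEm invC_E8 one_ne_zero hmem (by norm_num) h5r (NfE8 2) (key 2 h) chkSE8_2
      ortgE8 (by decide +kernel) h2 h5 hpπ hE' hPN
  · exact fhall_fun hk hEm invC_E8 one_ne_zero hmem (by norm_num) h5r (NfE8 3) (key 3 h) chkSE8_3
      ortgE8 (by decide +kernel) h2 h5 hpπ hE' hPN

/-- **`E₆(q)`** -/
theorem fhall_e6 (e : G ≃* ↥(chevE6.group F)) : FHall π G := by
  by_cases h3 : 3 ∈ π
  · have hp : p.Prime := CharP.char_is_prime F p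
    have h3F : (3 : F) ≠ 0 := by exact_mod_cast cast_ne_zero_of_char (F := F) hp Nat.prime_three (ne_of_mem hpπ h3)
    have h4 := three_cases h3F
    by_cases h1 : Fintype.card F % 3 = 1
    · exact fhall_e6_three_one h2 hpπ hE h3 h1 e
    · exact fhall_e6_three_two h2 hpπ hE h3 (by omega) e
  · exact fhall_e6_five h2 hpπ hE h3 e

/-- **`E₈(q)`** -/
theorem fhall_e8 (e : G ≃* ↥(chevE8.group F)) : FHall π G := by
  by_cases h3 : 3 ∈ π
  · exact fhall_e8_three h2 hpπ hE h3 e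
  by_cases h5 : 5 ∈ π
  · have hp : p.Prime := CharP.char_is_prime F p
    have h5F : (5 : F) ≠ 0 := by exact_mod_cast cast_ne_zero_of_char (F := F) hp Nat.prime_five (ne_of_mem hpπ h5)
    have h0 : ¬ 5 ∣ Fintype.card F := by
      intro h
      obtain ⟨p, n, hp, hpp, hc⟩ := FiniteField.card' F
      rw [hc] at h
      have h2 := Nat.prime_five.dvd_of_dvd_pow h
      have h3' := (Nat.prime_dvd_prime_iff_eq Nat.prime_five hpp).1 h2
      subst h3'
      exact h5F (by exact_mod_cast CharP.cast_eq_zero F 5)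
    have h1 : Fintype.card F % 5 = 1 ∨ Fintype.card F % 5 = 4 ∨ Fintype.card F % 5 = 2 ∨ Fintype.card F % 5 = 3 := by
      omega
    rcases h1 with h1 | h1 | h1 | h1
    · exact fhall_e8_five h2 hpπ hE h3 h5 (Or.inl (by omega)) e
    · exact fhall_e8_five h2 hpπ hE h3 h5 (Or.inr (by omega)) e
    · exact fhall_e8_four h2 hpπ hE h3 h5 (by rw [Nat.dvd_iff_mod_eq_zero, Nat.add_mod, Nat.pow_mod, h1]) e
    · exact fhall_e8_four h2 hpπ hE h3 h5 (by rw [Nat.dvd_iff_mod_eq_zero, Nat.add_mod, Nat.pow_mod, h1]) e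
  · exact fhall_e8_one h2 hpπ hE (r := 7) (Or.inr (Or.inr rfl)) (fun t ht htπ ht7 =>
      eleven_le ht (ne_of_mem h2 htπ) (ne_of_mem h3 htπ) (ne_of_mem h5 htπ) ht7) e

end Untw

section Tw

variable {K : Type u} [Field K] [Fintype K] [CharP K p] {q : ℕ} (hq : IsPrimePow q) (h2 : 2 ∉ π) (hpπ : p ∉ π)
  (hE : ∃ H : Subgroup G, IsPiHall π H)

include hq h2 hpπ hE

/-- **`²E₆(q)`** -/
theorem fhall_2E6 (hF : Fintype.card K = q ^ 2) (e : G ≃* ↥(twistedE6 K q)) : FHall π G := by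
  by_cases h3 : 3 ∈ π
  · have hp : p.Prime := CharP.char_is_prime K p
    have h3F : (3 : K) ≠ 0 := by exact_mod_cast cast_ne_zero_of_char (F := K) hp Nat.prime_three (ne_of_mem hpπ h3)
    have h4 := three_cases h3F
    have h0 : q % 3 ≠ 0 := by
      intro h0
      have h5 : 3 ∣ q := Nat.dvd_of_mod_eq_zero h0
      have h6 : 3 ∣ Fintype.card K := by rw [hF]; exact dvd_pow h5 two_ne_zero
      omega
    by_cases h1 : q % 3 = 2
    · exact fhall_2E6_three_two hq h2 hpπ hE h3 hF h1 e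
    · exact fhall_2E6_three_one hq h2 hpπ hE h3 hF (by omega) e
  · exact fhall_2E6_five hq h2 hpπ hE h3 hF e

end Tw

end Cfsg.Agent.H167.RV
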