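import Cfsg.Agent.H167.RV.TorE

/-!
# TEAM RV: `E7(q)` (helper167)

The case `5, 7 ∈ π`, `5 ∣ q² + 1` is the hypothesis `hdead`.
-/

set_option autoImplicit false

namespace Cfsg.Agent.H167.RV

open Subgroup Cfsg Cfsg.Lie Cfsg.Agent.H988.CPi Cfsg.Agent.H571.RV Cfsg.Agent.H553.OddHall
open Cfsg.Agent.H565.NM (cast_ne_zero_of_char)

universe u v

variable {G : Type v} [Group G] [Finite G] {π : Set ℕ} {p : ℕ}

/-- **`E₇(q)`** -/
theorem fhall_e7_of {F : Type u} [Field F] [Fintype F] [CharP F p]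
    (hdead : 5 ∣ Fintype.card F ^ 2 + 1 → ((7 : ℕ) : F) ≠ 0 → ∀ K : Subgroup ↥(chevE7.group F),
      IsPiHall ({5, 7} : Set ℕ) K → False)
    (h2 : 2 ∉ π) (hpπ : p ∉ π) (hE : ∃ H : Subgroup G, IsPiHall π H) (e : G ≃* ↥(chevE7.group F)) : FHall π G := by
  have hp : p.Prime := CharP.char_is_prime F p
  by_cases h3 : 3 ∈ π
  · exact fhall_e7_three h2 hpπ hE h3 e
  by_cases h5 : 5 ∈ π
  swap
  · exact fhall_e7_one h2 hpπ hE (r := 7) (Or.inr (Or.inr rfl)) (fun t ht htπ ht7 =>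
      eleven_le ht (ne_of_mem h2 htπ) (ne_of_mem h3 htπ) (ne_of_mem h5 htπ) ht7) e
  have h5F : (5 : F) ≠ 0 := by exact_mod_cast cast_ne_zero_of_char (F := F) hp Nat.prime_five (ne_of_mem hpπ h5)
  have h0 : ¬ 5 ∣ Fintype.card F := by
    intro h
    obtain ⟨p, n, hp, hpp, hc⟩ := FiniteField.card' F
    rw [hc] at h
    have h2 := Nat.prime_five.dvd_of_dvd_pow h
    have h3' := (Nat.prime_dvd_prime_iff_eq Nat.prime_five hpp).1 h2
    subst h3'
    exact h5F (by exact_mod_cast CharP.cast_eq_zero F 5)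
  have h1 : Fintype.card F % 5 = 1 ∨ Fintype.card F % 5 = 4 ∨ Fintype.card F % 5 = 2 ∨ Fintype.card F % 5 = 3 := by
    omega
  have hcase : ((5 : ℤ) ∣ (Fintype.card F : ℤ) - 1 ∨ (5 : ℤ) ∣ (Fintype.card F : ℤ) - (-1 : ℤ)) ∨
      5 ∣ Fintype.card F ^ 2 + 1 := by
    rcases h1 with h1 | h1 | h1 | h1
    · exact Or.inl (Or.inl (by omega))
    · exact Or.inl (Or.inr (by omega))
    · exact Or.inr (by rw [Nat.dvd_iff_mod_eq_zero, Nat.add_mod, Nat.pow_mod, h1])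
    · exact Or.inr (by rw [Nat.dvd_iff_mod_eq_zero, Nat.add_mod, Nat.pow_mod, h1])
  rcases hcase with hq | hq
  · exact fhall_e7_five h2 hpπ hE h3 h5 hq e
  by_cases h7 : 7 ∈ π
  · exfalso
    have h7F := cast_ne_zero_of_char (F := F) hp (by norm_num : (7 : ℕ).Prime) (ne_of_mem hpπ h7)
    obtain ⟨H, hH⟩ := exists_hall_equiv e hE
    have hfin : Finite ↥(chevE7.group F) := inferInstance
    obtain ⟨X, -, hX, -⟩ := exists_hall_over Nat.prime_five (t := 7) h2 hH h5 h7 (S := ⊥) bot_le IsPGroup.of_bot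
    exact hdead hq h7F X hX
  · refine fhall_e7_one h2 hpπ hE (r := 5) (Or.inr (Or.inl rfl)) (fun t ht htπ ht5 => ?_) e
    exact eleven_le ht (ne_of_mem h2 htπ) (ne_of_mem h3 htπ) ht5 (ne_of_mem h7 htπ)

end Cfsg.Agent.H167.RV
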