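import Cfsg.Agent.H167.RV.TorF
import Cfsg.Agent.H449.RV.E7a
import Cfsg.Agent.H553.RV.E7C

/-!
# `E₇(q)`: Hall `π`-subgroups, `2, p ∉ π` (all cases)
-/

set_option autoImplicit false

namespace Cfsg.Agent.H167.RV

open Subgroup Cfsg Cfsg.Lie Cfsg.Agent.H988.CPi Cfsg.Agent.H571.RV Cfsg.Agent.H553.OddHall

universe u v

variable {G : Type v} [Group G] [Finite G] {π : Set ℕ} {p : ℕ}

/-- **`E₇(q)`** -/
theorem fhall_e7 {F : Type u} [Field F] [Fintype F] [CharP F p] (h2 : 2 ∉ π) (hpπ : p ∉ π)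
    (hE : ∃ H : Subgroup G, IsPiHall π H) (e : G ≃* ↥(chevE7.group F)) : FHall π G := by
  refine fhall_e7_of (fun h5 h7F K hK => ?_) h2 hpπ hE e
  by_cases h7 : 7 ∣ Fintype.card F ^ 2 - 1
  · exact Cfsg.Agent.H449.RV.E7a.no_hall_a F h5 h7 K hK
  · exact Cfsg.Agent.H553.RV.E7B.no_hall h5 h7 (by exact_mod_cast h7F) K hK

end Cfsg.Agent.H167.RV
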